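import Cfsg.Agent.TwoPrimeClasses.Exceptional
import Cfsg.Agent.Characters.Integrality

/-!
# Degrees and vanishing, and free actions on cosets
-/

set_option autoImplicit false
set_option linter.unusedSectionVars false
set_option linter.style.haveILetI false

namespace CfsgLib.TwoPrimeClasses

open Subgroup CfsgLib.Characters
open scoped ComplexConjugate

universe u

/-- A set with a free action has size divisible by the order of the group. -/
theorem card_dvd_ncard_of_free {H α : Type*} [Group H] [MulAction H α] [Finite α] [Finite H]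
    (s : Set α) (hs : ∀ (h : H), ∀ a ∈ s, h • a ∈ s)
    (hfree : ∀ (h : H), ∀ a ∈ s, h • a = a → h = 1) : Nat.card H ∣ s.ncard := by
  classical
  let A : SubMulAction H α := ⟨s, fun h a ha => hs h a ha⟩
  haveI := Fintype.ofFinite (MulAction.orbitRel.Quotient H A)
  rw [← Nat.card_coe_set_eq]
  show Nat.card H ∣ Nat.card A
  rw [Nat.card_congr (MulAction.selfEquivSigmaOrbitsQuotientStabilizer H A), Nat.card_sigma]
  refine Finset.dvd_sum fun ω _ => ?_
  have hst : MulAction.stabilizer H ω.out = ⊥ := (Subgroup.eq_bot_iff_forall _).2 fun h hh =>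
    hfree h ω.out ω.out.2 (congrArg Subtype.val (MulAction.mem_stabilizer_iff.1 hh))
  rw [← Subgroup.index_eq_card, hst, Subgroup.index_bot]

variable {G : Type u} [Group G] [Fintype G]

theorem degree_dvd_card (χ : Cfsg.IrrCharacter G) {n : ℕ} (hn : (χ : G → ℂ) 1 = n) :
    n ∣ Nat.card G := by
  obtain ⟨k, ρ, hρ, hχ⟩ := χ.2
  haveI := hρ
  have hdim : Module.finrank ℂ (Fin k → ℂ) = n := by
    have h := hn
    rw [← hχ, Representation.char_one] at h
    exact_mod_cast h
  exact hdim ▸ finrank_dvd_card ρ

/-- In a simple group a non-linear character vanishes off the identity on classes of size prime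
to the degree. -/
theorem char_eq_zero_of_coprime [IsSimpleGroup G] (hG : ¬ IsMulCommutative G)
    (χ : Cfsg.IrrCharacter G) {n : ℕ} (hn : (χ : G → ℂ) 1 = n) (hn1 : 1 < n) {g : G}
    (hg : g ≠ 1) (hcop : n.Coprime (cidx g)) : (χ : G → ℂ) g = 0 := by
  obtain ⟨k, ρ, hρ, hχ⟩ := χ.2
  haveI := hρ
  have hdim : Module.finrank ℂ (Fin k → ℂ) = n := by
    have h := hn
    rw [← hχ, Representation.char_one] at h
    exact_mod_cast h
  rcases char_zero_or_norm_of_coprime ρ g (by rw [hdim]; exact hcop) with h | h
  · rw [← hχ]; exact h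
  exfalso
  obtain ⟨ω, hω, -⟩ := exists_scalar_of_norm_char_eq ρ g h
  have hker : (MonoidHom.ker (ρ : G →* Module.End ℂ (Fin k → ℂ))) = ⊥ := by
    refine ((MonoidHom.normal_ker _).eq_bot_or_eq_top).resolve_right fun h => ?_
    have hall : ∀ y : G, (χ : G → ℂ) y = n := fun y => by
      have hy : (ρ : G →* Module.End ℂ (Fin k → ℂ)) y = 1 :=
        MonoidHom.mem_ker.1 (h ▸ Subgroup.mem_top y)
      rw [← hn, ← hχ, Representation.character, Representation.character,
        show ρ y = 1 from hy, map_one ρ]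
    have h1 := classInner_isIrr_self χ.2
    rw [Cfsg.classInner] at h1
    simp only [hall, map_natCast, Finset.sum_const, Finset.card_univ, nsmul_eq_mul] at h1
    rw [← mul_assoc, Nat.card_eq_fintype_card, inv_mul_cancel₀ (by simp), one_mul] at h1
    have h2 : n * n = 1 := by exact_mod_cast h1
    have := Nat.eq_one_of_mul_eq_one_right h2
    omega
  have hcen : g ∈ Subgroup.center G := Subgroup.mem_center_iff.2 fun y => by
    refine (MonoidHom.ker_eq_bot_iff _).1 hker ?_
    show (ρ : G →* Module.End ℂ (Fin k → ℂ)) (y * g) = ρ (g * y)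
    rw [map_mul, map_mul, hω]
    ext x
    simp
  rw [CfsgLib.Small.center_eq_bot_of_simple hG, Subgroup.mem_bot] at hcen
  exact hg hcen

/-- A character vanishing on the non-trivial elements of a subgroup. -/
theorem card_dvd_degree_of_vanish (χ : Cfsg.IrrCharacter G) (Q : Subgroup G) {n : ℕ}
    (hn : (χ : G → ℂ) 1 = n) (h : ∀ y ∈ Q, y ≠ 1 → (χ : G → ℂ) y = 0) : Nat.card Q ∣ n := by
  classical
  haveI := Fintype.ofFinite Q
  obtain ⟨e, he⟩ := classInner_character_irr
    (isCharacter_restrict Q (isCharacter_of_isIrr χ.2)) (isIrr_one (G := Q))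
  simp only [Cfsg.classInner, map_one, mul_one] at he
  rw [inv_mul_eq_iff_eq_mul₀ (Nat.cast_ne_zero.2 Nat.card_pos.ne'),
    Finset.sum_eq_single (1 : Q) (fun b _ hb => h (b : G) b.2 fun h1 => hb (Subtype.ext h1))
      (fun h1 => absurd (Finset.mem_univ _) h1),
    OneMemClass.coe_one, hn, ← Nat.cast_mul, Nat.cast_inj] at he
  exact ⟨e, he⟩

end CfsgLib.TwoPrimeClasses
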