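import Cfsg.Agent.TwoPrimeClasses.Inner
import Mathlib.GroupTheory.Solvable

/-!
# Perfect groups with the hypothesis are simple; the general group
-/

set_option autoImplicit false
set_option linter.unusedSectionVars false
set_option linter.style.haveILetI false

namespace CfsgLib.TwoPrimeClasses

open Subgroup

universe u v

variable {G : Type u} [Group G] [Finite G]

theorem SimpleData.third_prime (D : SimpleData G) : ∃ c : ℕ, c.Prime ∧ 2 ∣ Nat.card G ∧
    3 ∣ Nat.card G ∧ c ∣ Nat.card G ∧ c ≠ 2 ∧ c ≠ 3 := by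
  rcases D.card with e | e
  · exact ⟨5, by norm_num, by rw [e]; norm_num, by rw [e]; norm_num, by rw [e]; norm_num,
      by norm_num, by norm_num⟩
  · exact ⟨7, by norm_num, by rw [e]; norm_num, by rw [e]; norm_num, by rw [e]; norm_num,
      by norm_num, by norm_num⟩

theorem SimpleData.dvd_cidx (D : SimpleData G) {r t : ℕ} (hr : r.Prime) (ht : t.Prime)
    (htr : t ≠ r) (htG : t ∣ Nat.card G) {a : G} (ha : a ≠ 1) (har : ∃ k, orderOf a = r ^ k) :
    t ∣ cidx a := by
  haveI := Fact.mk hr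
  obtain ⟨k, hk⟩ := har
  obtain ⟨R, hR⟩ := (IsPGroup.of_card (n := k) (by rw [Nat.card_zpowers, hk]) :
    IsPGroup r (zpowers a)).exists_le_sylow
  rw [cidx, D.cent r hr R a (hR (mem_zpowers a)) ha]
  exact pow_coprime_sylow R ht htr htG

/-- An element whose class size has two prime divisors different from a given number. -/
theorem SimpleData.exists_class (D : SimpleData G) (r : ℕ) :
    ∃ (a : G) (u w : ℕ), u.Prime ∧ w.Prime ∧ u ≠ w ∧ u ≠ r ∧ w ≠ r ∧ u ∣ cidx a ∧ w ∣ cidx a := by
  obtain ⟨c, hc, h2, h3, hcG, hc2, hc3⟩ := D.third_prime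
  have key : ∀ s : ℕ, s.Prime → s ∣ Nat.card G → ∃ a : G, a ≠ 1 ∧ ∃ k, orderOf a = s ^ k := by
    intro s hs hsd
    haveI := Fact.mk hs
    obtain ⟨a, ha⟩ := exists_prime_orderOf_dvd_card' s hsd
    exact ⟨a, fun e => by rw [e, orderOf_one] at ha; exact hs.ne_one ha.symm, 1, by rw [ha, pow_one]⟩
  by_cases hr2 : r = 2
  · obtain ⟨a, ha, hao⟩ := key 2 Nat.prime_two h2
    exact ⟨a, 3, c, Nat.prime_three, hc, hc3.symm, by omega, by omega,
      D.dvd_cidx Nat.prime_two Nat.prime_three (by norm_num) h3 ha hao,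
      D.dvd_cidx Nat.prime_two hc hc2 hcG ha hao⟩
  by_cases hr3 : r = 3
  · obtain ⟨a, ha, hao⟩ := key 3 Nat.prime_three h3
    exact ⟨a, 2, c, Nat.prime_two, hc, hc2.symm, by omega, by omega,
      D.dvd_cidx Nat.prime_three Nat.prime_two (by norm_num) h2 ha hao,
      D.dvd_cidx Nat.prime_three hc hc3 hcG ha hao⟩
  obtain ⟨a, ha, hao⟩ := key c hc hcG
  exact ⟨a, 2, 3, Nat.prime_two, Nat.prime_three, by norm_num, Ne.symm hr2, Ne.symm hr3,
    D.dvd_cidx hc Nat.prime_two hc2.symm h2 ha hao,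
    D.dvd_cidx hc Nat.prime_three hc3.symm h3 ha hao⟩

/-- Class sizes in a product of two normal subgroups meeting trivially. -/
theorem cidx_dvd_split {M C : Subgroup G} [M.Normal] [C.Normal] (hMC : M ⊓ C = ⊥) {m c : G}
    (hm : m ∈ M) (hc : c ∈ C) : cidx m ∣ cidx (m * c) ∧ cidx c ∣ cidx (m * c) := by
  have key : ∀ g ∈ centralizer ({m * c} : Set G), g * m = m * g ∧ g * c = c * g := by
    intro g hg
    rw [mem_centralizer_singleton_iff] at hg
    have he : g * m * g⁻¹ * (g * c * g⁻¹) = m * c := by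
      calc g * m * g⁻¹ * (g * c * g⁻¹) = g * (m * c) * g⁻¹ := by group
        _ = m * c := by rw [hg]; group
    have h1 : m⁻¹ * (g * m * g⁻¹) = c * (g * c * g⁻¹)⁻¹ := by
      calc m⁻¹ * (g * m * g⁻¹) = m⁻¹ * (g * m * g⁻¹ * (g * c * g⁻¹)) * (g * c * g⁻¹)⁻¹ := by group
        _ = c * (g * c * g⁻¹)⁻¹ := by rw [he]; group
    have h2 : m⁻¹ * (g * m * g⁻¹) ∈ M ⊓ C :=
      mem_inf.2 ⟨mul_mem (inv_mem hm) (Normal.conj_mem inferInstance m hm g),
        h1 ▸ mul_mem hc (inv_mem (Normal.conj_mem inferInstance c hc g))⟩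
    rw [hMC, mem_bot, inv_mul_eq_one] at h2
    have hgm : g * m = m * g := mul_inv_eq_iff_eq_mul.1 h2.symm
    refine ⟨hgm, ?_⟩
    rw [← mul_assoc g, hgm, mul_assoc, mul_assoc] at hg
    exact mul_left_cancel hg
  exact ⟨index_dvd_of_le fun g hg => mem_centralizer_singleton_iff.2 (key g hg).1,
    index_dvd_of_le fun g hg => mem_centralizer_singleton_iff.2 (key g hg).2⟩

theorem commutator_eq_top_of_surjective {H : Type v} [Group H] {f : G →* H}
    (hf : Function.Surjective f) (hG : commutator G = ⊤) : commutator H = ⊤ := by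
  rw [commutator_def] at hG ⊢
  rw [← Subgroup.map_top_of_surjective f hf, ← Subgroup.map_commutator, hG]

theorem not_comm_of_perfect [Nontrivial G] (hG : commutator G = ⊤) : ¬ IsMulCommutative G :=
  fun h => top_ne_bot (hG ▸ (commutator_eq_bot_iff (G := G)).2 h)

/-- Every non-trivial perfect group with the hypothesis is simple. -/
theorem isSimple_of_perfect_aux (n : ℕ) : ∀ {L : Type u} [Group L] [Finite L] [Nontrivial L],
    Nat.card L = n → TwoPrimes L → commutator L = ⊤ → IsSimpleGroup L := by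
  induction n using Nat.strong_induction_on with
  | _ n ih =>
  intro L _ _ _ hn h hperf
  by_contra hns
  -- a minimal normal subgroup
  obtain ⟨M, ⟨hMn, hMbot, hMtop⟩, hmin⟩ : ∃ M : Subgroup L, (M.Normal ∧ M ≠ ⊥ ∧ M ≠ ⊤) ∧
      ∀ M' : Subgroup L, M'.Normal → M' ≠ ⊥ → M' ≤ M → M' = M := by
    obtain ⟨M₀, hM₀⟩ : ∃ M : Subgroup L, M.Normal ∧ M ≠ ⊥ ∧ M ≠ ⊤ := by
      by_contra hcon
      push Not at hcon
      exact hns ⟨fun N hN => or_iff_not_imp_left.2 fun hb => hcon N hN hb⟩
    have hfin : {M : Subgroup L | M.Normal ∧ M ≠ ⊥ ∧ M ≠ ⊤}.Finite := Set.toFinite _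
    obtain ⟨M, hM, hmin⟩ := hfin.exists_minimal ⟨M₀, hM₀⟩
    refine ⟨M, hM, fun M' h1 h2 h3 => le_antisymm h3 (hmin ⟨h1, h2, fun e => hM.2.2 ?_⟩ h3)⟩
    exact top_le_iff.1 (e ▸ h3)
  haveI := hMn
  -- the quotient is simple
  let π := QuotientGroup.mk' M
  have hπ : Function.Surjective π := QuotientGroup.mk'_surjective M
  haveI : Nontrivial (L ⧸ M) := QuotientGroup.nontrivial_iff.2 hMtop
  have hQlt : Nat.card (L ⧸ M) < n := by
    rw [← hn, ← M.index_eq_card, ← M.card_mul_index]
    exact lt_mul_of_one_lt_left (Nat.pos_of_ne_zero index_ne_zero_of_finite)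
      ((one_lt_card_iff_ne_bot M).2 hMbot)
  have hQperf := commutator_eq_top_of_surjective hπ hperf
  haveI hQs : IsSimpleGroup (L ⧸ M) := ih _ hQlt rfl (h.of_surjective hπ) hQperf
  have DQ : SimpleData (L ⧸ M) :=
    simple_data (not_comm_of_perfect hQperf) (h.of_surjective hπ)
  haveI : Nontrivial M := (nontrivial_iff_ne_bot M).2 hMbot
  by_cases hMperf : commutator M = ⊤
  · -- a perfect minimal normal subgroup splits off
    have hMlt : Nat.card M < n := by
      rw [← hn]
      rcases lt_or_eq_of_le (card_le_card_group M) with h' | h'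
      · exact h'
      · exact absurd ((card_eq_iff_eq_top M).1 h') hMtop
    haveI : IsSimpleGroup M := ih _ hMlt rfl (h.of_normal M) hMperf
    obtain ⟨hsup, hinf⟩ := simple_normal_split (T := M) h (not_comm_of_perfect hMperf)
    have DM : SimpleData M := simple_data (not_comm_of_perfect hMperf) (h.of_normal M)
    obtain ⟨a, u, w, hu, hw, huw, hu2, hw2, hua, hwa⟩ := DM.exists_class 2
    obtain ⟨b, u', w', hu', hw', huw', hu'u, hw'u, hu'b, hw'b⟩ := DQ.exists_class u
    -- one of the primes of `b` is new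
    obtain ⟨t, ht, htu, htw, htb⟩ : ∃ t, t.Prime ∧ t ≠ u ∧ t ≠ w ∧ t ∣ cidx b := by
      by_cases hcase : u' = w
      · exact ⟨w', hw', hw'u, fun e => huw' (hcase.trans e.symm), hw'b⟩
      · exact ⟨u', hu', hu'u, hcase, hu'b⟩
    obtain ⟨g, hg⟩ := hπ b
    obtain ⟨m, hm, c, hc, hmc⟩ := mem_sup_of_normal_right.1 (hsup ▸ mem_top g)
    have hcb : π c = b := by
      rw [← hg, ← hmc, map_mul, show π m = 1 from (QuotientGroup.eq_one_iff m).2 hm, one_mul]
    obtain ⟨h1, h2⟩ := cidx_dvd_split hinf a.2 hc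
    exact h.not_three ((a : L) * c) ht hu hw htu htw huw
      ((htb.trans (hcb ▸ cidx_map_dvd hπ c)).trans h2)
      ((hua.trans (cidx_dvd_of_normal M a)).trans h1)
      ((hwa.trans (cidx_dvd_of_normal M a)).trans h1)
  -- otherwise it is an abelian group of prime power order
  have hMab : IsMulCommutative M := by
    rw [← commutator_eq_bot_iff]
    haveI : ((commutator M).map M.subtype).Normal := ConjAct.normal_of_characteristic_of_normal
    by_cases hb : (commutator M).map M.subtype = ⊥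
    · exact (map_eq_bot_iff_of_injective _ M.subtype_injective).1 hb
    · exfalso
      refine hMperf (map_injective M.subtype_injective ?_)
      rw [hmin _ inferInstance hb (map_subtype_le _), ← MonoidHom.range_eq_map, range_subtype]
  obtain ⟨r, hr, hrd⟩ := Nat.exists_prime_and_dvd
    (fun e => hMbot (Subgroup.eq_bot_of_card_eq M e) : Nat.card M ≠ 1)
  haveI := Fact.mk hr
  have hMr : IsPGroup r M := by
    obtain ⟨R⟩ : Nonempty (Sylow r M) := inferInstance
    haveI : (R : Subgroup M).Normal := ⟨fun x hx g => by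
      rwa [hMab.is_comm.comm g x, mul_inv_cancel_right]⟩
    haveI := R.characteristic_of_normal inferInstance
    haveI : ((R : Subgroup M).map M.subtype).Normal := ConjAct.normal_of_characteristic_of_normal
    have e := hmin _ inferInstance (fun hb => R.ne_bot_of_dvd_card hrd
      ((map_eq_bot_iff_of_injective _ M.subtype_injective).1 hb)) (map_subtype_le _)
    have hR : (R : Subgroup M) = ⊤ := map_injective M.subtype_injective (by
      rw [e, ← MonoidHom.range_eq_map, range_subtype])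
    exact (hR ▸ R.2 : IsPGroup r (⊤ : Subgroup M)).of_equiv topEquiv
  have hMC : M ≤ centralizer (M : Set L) := fun x hx => mem_centralizer_iff.2 fun y hy =>
    congrArg Subtype.val (hMab.is_comm.comm ⟨y, hy⟩ ⟨x, hx⟩)
  haveI : ((centralizer (M : Set L)).map π).Normal := Subgroup.Normal.map inferInstance π hπ
  rcases (inferInstance : ((centralizer (M : Set L)).map π).Normal).eq_bot_or_eq_top with hC | hC
  · -- the centraliser of `M` is `M`
    obtain ⟨b, u, w, hu, hw, huw, hur, hwr, hub, hwb⟩ := DQ.exists_class r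
    obtain ⟨x, hx⟩ := hπ b
    have hb1 : b ≠ 1 := fun e => by
      subst e
      have : cidx (1 : L ⧸ M) = 1 := by
        rw [cidx, index_eq_one, eq_top_iff']
        exact fun y => mem_centralizer_singleton_iff.2 (by simp)
      rw [this] at hub
      exact hu.not_dvd_one hub
    have hxn : x ∉ centralizer (M : Set L) := fun hxc => hb1 (by
      have := mem_map_of_mem π hxc
      rw [hC, mem_bot, hx] at this
      exact this)
    have hr' : r ∣ cidx x := by
      refine dvd_trans ?_ (relIndex_dvd_index_normal (centralizer ({x} : Set L)) M)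
      obtain ⟨k, hk⟩ := IsPGroup.iff_card.1 hMr
      obtain ⟨i, -, hi⟩ := (Nat.dvd_prime_pow hr).1
        (hk ▸ relIndex_dvd_card (centralizer ({x} : Set L)) M)
      rw [hi]
      refine dvd_pow_self r fun hi0 => hxn (mem_centralizer_of_le (r := r) ?_)
      rw [← relIndex_eq_one, hi, hi0, pow_zero]
    exact h.not_three x hr hu hw hur.symm hwr.symm huw hr'
      (hub.trans (hx ▸ cidx_map_dvd hπ x)) (hwb.trans (hx ▸ cidx_map_dvd hπ x))
  -- `M` is central
  have hMZ : ∀ z ∈ M, ∀ g : L, g * z = z * g := by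
    intro z hz g
    have hall : g ∈ centralizer (M : Set L) := by
      obtain ⟨c, hc, hcg⟩ := hC.ge (mem_top (π g))
      have := mul_mem hc (hMC (QuotientGroup.eq.1 hcg))
      rwa [mul_inv_cancel_left] at this
    exact (mem_centralizer_iff.1 hall z hz).symm
  obtain ⟨R⟩ : Nonempty (Sylow r L) := inferInstance
  by_cases hRab : IsMulCommutative (R : Subgroup L)
  · -- transfer
    obtain ⟨z, hz⟩ := exists_prime_orderOf_dvd_card' (G := M) r hrd
    rw [← orderOf_coe] at hz
    have hzR : (z : L) ∈ (R : Subgroup L) := by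
      obtain ⟨R', hR'⟩ := (IsPGroup.of_card (n := 1) (by rw [Nat.card_zpowers, hz, pow_one]) :
        IsPGroup r (zpowers (z : L))).exists_le_sylow
      obtain ⟨g, hg⟩ := MulAction.exists_smul_eq L R' R
      have h1 : g * (z : L) * g⁻¹ ∈ (R : Subgroup L) := by
        rw [← hg, Sylow.smul_def]
        exact ⟨z, hR' (mem_zpowers _), rfl⟩
      rwa [hMZ z z.2 g, mul_inv_cancel_right] at h1
    letI : CommGroup (R : Subgroup L) :=
      { (inferInstance : Group (R : Subgroup L)) with mul_comm := hRab.is_comm.comm }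
    let τ : L →* (R : Subgroup L) := (MonoidHom.id (R : Subgroup L)).transfer
    have hτ : τ z = ⟨(z : L) ^ (R : Subgroup L).index, pow_mem hzR _⟩ := by
      refine MonoidHom.transfer_eq_pow _ (z : L) fun k g₀ hk => ?_
      rw [mul_assoc, ← hMZ _ (pow_mem z.2 k) g₀, inv_mul_cancel_left]
    have hτ1 : τ z = 1 := by
      have hker : commutator L ≤ τ.ker := Abelianization.commutator_subset_ker τ
      rw [hperf] at hker
      exact hker (mem_top _)
    rw [hτ] at hτ1
    have hd := orderOf_dvd_of_pow_eq_one (congrArg Subtype.val hτ1 : (z : L) ^ (R : Subgroup L).index = 1)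
    rw [hz] at hd
    exact R.not_dvd_index hd
  · obtain ⟨x, hxR, hxn⟩ : ∃ x, x ∈ (R : Subgroup L) ∧
        x ∉ centralizer ((R : Subgroup L) : Set L) := by
      by_contra hcon
      push Not at hcon
      exact hRab ⟨⟨fun a b => Subtype.ext (mem_centralizer_iff.1 (hcon b b.2) a a.2)⟩⟩
    have hx1 : π x ≠ 1 := fun e => hxn (mem_centralizer_iff.2 fun y _ =>
      hMZ x ((QuotientGroup.eq_one_iff x).1 e) y)
    obtain ⟨k, hk⟩ := IsPGroup.iff_orderOf.1 R.2 ⟨x, hxR⟩
    rw [orderOf_mk] at hk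
    obtain ⟨i, -, hi⟩ := (Nat.dvd_prime_pow hr).1 (hk ▸ orderOf_map_dvd π x)
    have hQr : r ∣ Nat.card (L ⧸ M) := (dvd_pow_self r (fun e => hx1 (orderOf_eq_one_iff.1
      (by rw [hi, e, pow_zero])) : i ≠ 0)).trans (hi ▸ orderOf_dvd_natCard _)
    obtain ⟨R₁, hR₁⟩ := (IsPGroup.of_card (n := i) (by rw [Nat.card_zpowers, hi]) :
      IsPGroup r (zpowers (π x))).exists_le_sylow
    have hK : IsPGroup r ((R₁ : Subgroup (L ⧸ M)).comap π) :=
      R₁.2.comap_of_ker_isPGroup π (by rw [QuotientGroup.ker_mk']; exact hMr)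
    have hCK : centralizer ({x} : Set L) ≤ (R₁ : Subgroup (L ⧸ M)).comap π := fun y hy => by
      rw [mem_comap, ← DQ.cent r hr R₁ (π x) (hR₁ (mem_zpowers _)) hx1,
        mem_centralizer_singleton_iff, ← map_mul, ← map_mul,
        mem_centralizer_singleton_iff.1 hy]
    have hr' : r ∣ cidx x := by
      by_contra hnd
      obtain ⟨R₂, hR₂⟩ := Cfsg.Agent.S4160.exists_sylow_le_of_not_dvd hnd
      have heq : (R₂ : Subgroup L) = (R₁ : Subgroup (L ⧸ M)).comap π :=
        (R₂.3 hK (hR₂.trans hCK)).symm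
      have hall : centralizer ({x} : Set L) = (R₂ : Subgroup L) :=
        le_antisymm (heq ▸ hCK) hR₂
      -- an abelian Sylow subgroup would follow
      refine hxn (mem_centralizer_iff.2 fun y hy => ?_)
      have hx2 : x ∈ (R₁ : Subgroup (L ⧸ M)).comap π := hR₁ (mem_zpowers _)
      have hsub : (R : Subgroup L) ≤ centralizer ({x} : Set L) := by
        have hRi : (R₁ : Subgroup (L ⧸ M)).comap π = (R : Subgroup L) := by
          have hmap : IsPGroup r ((R : Subgroup L).map π) := R.2.map π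
          have hxRm : π x ∈ (R : Subgroup L).map π := mem_map_of_mem π hxR
          obtain ⟨R₃, hR₃⟩ := hmap.exists_le_sylow
          have h13 : R₃ = R₁ := Sylow.ext ((DQ.cent r hr R₃ (π x) (hR₃ hxRm) hx1).symm.trans
            (DQ.cent r hr R₁ (π x) (hR₁ (mem_zpowers _)) hx1))
          exact R.3 hK (fun y hy => mem_comap.2 (h13 ▸ hR₃ (mem_map_of_mem π hy)))
        rw [hall, heq, hRi]
      exact mem_centralizer_singleton_iff.1 (hsub hy)
    obtain ⟨c, hcP, h2, h3, hcd, hc2, hc3⟩ := DQ.third_prime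
    have hdiv : ∀ t : ℕ, t.Prime → t ≠ r → t ∣ Nat.card (L ⧸ M) → t ∣ cidx x := fun t ht htr htd =>
      (DQ.dvd_cidx hr ht htr htd hx1 ⟨i, hi⟩).trans (cidx_map_dvd hπ x)
    by_cases hr2 : r = 2
    · exact h.not_three x hr Nat.prime_three hcP (by omega) (by omega) hc3.symm hr'
        (hdiv 3 Nat.prime_three (by omega) h3) (hdiv c hcP (by omega) hcd)
    by_cases hr3 : r = 3
    · exact h.not_three x hr Nat.prime_two hcP (by omega) (by omega) hc2.symm hr'
        (hdiv 2 Nat.prime_two (by omega) h2) (hdiv c hcP (by omega) hcd)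
    exact h.not_three x hr Nat.prime_two Nat.prime_three hr2 hr3 (by norm_num) hr'
      (hdiv 2 Nat.prime_two (Ne.symm hr2) h2) (hdiv 3 Nat.prime_three (Ne.symm hr3) h3)

/-- The structure of a non-solvable group with the hypothesis. -/
theorem nonsolvable_structure (h : TwoPrimes G) (hns : ¬ Group.IsSolvable G) :
    ∃ S : Subgroup G, S.Normal ∧ center G ⊓ S = ⊥ ∧ center G ⊔ S = ⊤ ∧
      IsSimpleGroup S ∧ (Nat.card S = 60 ∨ Nat.card S = 504) := by
  classical
  have hex : ∃ k, ∃ n, Nat.card (derivedSeries G n) = k := ⟨_, 0, rfl⟩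
  obtain ⟨n, hn⟩ := Nat.find_spec hex
  set L := derivedSeries G n
  haveI hLn : L.Normal := derivedSeries_normal G n
  have hsucc : derivedSeries G (n + 1) = L := by
    have hle : derivedSeries G (n + 1) ≤ L := by
      rw [derivedSeries_succ]; exact commutator_le_right L L
    refine eq_of_le_of_card_ge hle ?_
    rw [hn]
    exact Nat.find_min' hex ⟨n + 1, rfl⟩
  have hperf : commutator L = ⊤ := by
    refine map_injective L.subtype_injective ?_
    rw [map_subtype_commutator, ← MonoidHom.range_eq_map, range_subtype]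
    exact derivedSeries_succ G n ▸ hsucc
  have hLbot : L ≠ ⊥ := fun e => hns ⟨⟨n, e⟩⟩
  haveI : Nontrivial L := (nontrivial_iff_ne_bot L).2 hLbot
  haveI hLs : IsSimpleGroup L := isSimple_of_perfect_aux _ rfl (h.of_normal L) hperf
  have DL : SimpleData L := simple_data (not_comm_of_perfect hperf) (h.of_normal L)
  obtain ⟨hsup, hinf⟩ := simple_normal_split (T := L) h (not_comm_of_perfect hperf)
  set C := centralizer (L : Set G)
  -- the centraliser is abelian
  have hCab : ∀ x ∈ C, ∀ y ∈ C, x * y = y * x := by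
    by_contra hcon
    push Not at hcon
    obtain ⟨x, hx, y, hy, hxy⟩ := hcon
    obtain ⟨t, ht, htd⟩ := Nat.exists_prime_and_dvd (n := cidx (⟨x, hx⟩ : C)) fun e => hxy (by
      have h1 : (⟨y, hy⟩ : C) ∈ centralizer ({⟨x, hx⟩} : Set C) :=
        (index_eq_one.1 e).ge (mem_top _)
      exact (congrArg Subtype.val (mem_centralizer_singleton_iff.1 h1)).symm)
    obtain ⟨a, u, w, hu, hw, huw, hut, hwt, hua, hwa⟩ := DL.exists_class t
    obtain ⟨h1, h2⟩ := cidx_dvd_split hinf a.2 hx
    exact h.not_three ((a : G) * x) ht hu hw hut.symm hwt.symm huw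
      ((htd.trans (cidx_dvd_of_normal C ⟨x, hx⟩)).trans h2)
      ((hua.trans (cidx_dvd_of_normal L a)).trans h1)
      ((hwa.trans (cidx_dvd_of_normal L a)).trans h1)
  have hZ : center G = C := by
    refine le_antisymm (fun z hz => mem_centralizer_iff.2 fun l _ => mem_center_iff.1 hz l)
      fun c hc => mem_center_iff.2 fun g => ?_
    obtain ⟨l, hl, d, hd, rfl⟩ := mem_sup_of_normal_right.1 (hsup ▸ mem_top g)
    rw [mul_assoc, hCab d hd c hc, ← mul_assoc, mem_centralizer_iff.1 hc l hl, mul_assoc]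
  exact ⟨L, hLn, by rw [hZ, inf_comm, hinf], by rw [hZ, sup_comm, hsup], hLs, DL.card⟩

end CfsgLib.TwoPrimeClasses
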