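import Mathlib.NumberTheory.Padics.PadicVal.Basic
import Mathlib.Tactic.Linarith
import Mathlib.Tactic.LinearCombination
import Mathlib.Tactic.Ring

/-!
# The numbers

Powers of 2 next to powers of 3, and the pair of congruences coming from the two Sylow subgroups
with automiser of order 2.
-/

set_option autoImplicit false
set_option linter.unusedSectionVars false

namespace CfsgLib.TwoPrimeClasses

theorem two_pow_eq_three_pow_add_one {f m : ℕ} (h : 2 ^ f = 3 ^ m + 1) : f ≤ 2 := by
  by_contra hf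
  push Not at hf
  have h8 : 8 ∣ 2 ^ f := by
    obtain ⟨k, rfl⟩ : ∃ k, f = 3 + k := ⟨f - 3, by omega⟩
    rw [pow_add]
    exact dvd_mul_right _ _
  have h3 : 3 ^ m % 8 = 1 ∨ 3 ^ m % 8 = 3 := by
    clear h
    induction m with
    | zero => simp
    | succ m ih => rw [pow_succ, Nat.mul_mod]; rcases ih with e | e <;> rw [e] <;> simp
  omega

theorem three_pow_eq_two_pow_add_one {f m : ℕ} (h : 3 ^ m = 2 ^ f + 1) : f = 1 ∨ f = 3 := by
  by_contra hf
  push Not at hf
  rcases Nat.lt_or_ge f 3 with hlt | hge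
  · rcases (show f = 0 ∨ f = 2 by omega) with rfl | rfl
    · rcases Nat.eq_zero_or_pos m with rfl | hm
      · simp at h
      · have := dvd_pow_self 3 hm.ne'
        rw [h] at this
        norm_num at this
    · rcases Nat.lt_or_ge m 2 with hm | hm
      · interval_cases m <;> simp at h
      · have := Nat.pow_le_pow_right (show 1 ≤ 3 by norm_num) hm
        rw [h] at this
        norm_num at this
  have h8 : 8 ∣ 2 ^ f := by
    obtain ⟨k, rfl⟩ : ∃ k, f = 3 + k := ⟨f - 3, by omega⟩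
    rw [pow_add]
    exact dvd_mul_right _ _
  rcases Nat.even_or_odd' m with ⟨n, rfl | rfl⟩
  · -- both neighbours of `3 ^ n` are powers of two
    have h1 : 1 ≤ 3 ^ n := Nat.one_le_pow _ _ (by norm_num)
    obtain ⟨t, ht⟩ : ∃ t, 3 ^ n = t + 1 := ⟨3 ^ n - 1, by omega⟩
    have h2 : t * (t + 2) = 2 ^ f := by
      have : (3 ^ n) ^ 2 = 2 ^ f + 1 := by rw [← pow_mul, mul_comm]; exact h
      rw [ht] at this
      nlinarith
    obtain ⟨i, -, hi⟩ := (Nat.dvd_prime_pow Nat.prime_two).1 (h2 ▸ dvd_mul_right t (t + 2))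
    obtain ⟨j, -, hj⟩ := (Nat.dvd_prime_pow Nat.prime_two).1 (h2 ▸ dvd_mul_left (t + 2) t)
    have hi1 : i = 1 := by
      rcases Nat.lt_or_ge i 2 with hi' | hi'
      · interval_cases i
        · exfalso
          rw [pow_zero] at hi
          subst hi
          rcases Nat.lt_or_ge n 1 with hn | hn
          · interval_cases n; simp at ht
          · have := dvd_pow_self 3 (show n ≠ 0 by omega)
            rw [ht] at this
            norm_num at this
        · rfl
      · exfalso
        have h4 : 4 ∣ t := by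
          rw [hi, show i = 2 + (i - 2) by omega, pow_add]
          exact dvd_mul_right _ _
        have h4' : 4 ∣ t + 2 := by
          rw [hj]
          rcases Nat.lt_or_ge j 2 with hj' | hj'
          · exfalso
            have ht4 : 4 ≤ t := by
              rw [hi]
              exact le_trans (by norm_num) (Nat.pow_le_pow_right (show 1 ≤ 2 by norm_num) hi')
            interval_cases j <;> norm_num at hj <;> omega
          · rw [show j = 2 + (j - 2) by omega, pow_add]
            exact dvd_mul_right _ _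
        omega
    rw [hi1, pow_one] at hi
    subst hi
    have : (2 : ℕ) ^ f = 2 ^ 3 := by rw [← h2]; norm_num
    exact hf.2 (Nat.pow_right_injective (le_refl 2) this)
  · have h3 : 3 ^ (2 * n + 1) % 8 = 3 := by
      rw [pow_succ, pow_mul, Nat.mul_mod, Nat.pow_mod]
      norm_num
    omega

theorem three_dvd_two_pow_succ {c : ℕ} (hc : Odd c) : 3 ∣ 2 ^ c + 1 := by
  obtain ⟨k, rfl⟩ := hc
  rw [Nat.dvd_iff_mod_eq_zero, Nat.add_mod, pow_succ, pow_mul, Nat.mul_mod, Nat.pow_mod]
  norm_num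

theorem three_dvd_two_pow_sub {c : ℕ} (hc : Even c) : 3 ∣ 2 ^ c - 1 := by
  obtain ⟨k, rfl⟩ := hc
  rw [← two_mul, pow_mul]
  exact Nat.sub_one_dvd_pow_sub_one (2 ^ 2) k

/-- A prime power divisible by three is a power of three. -/
theorem eq_three_pow {r e x : ℕ} (hr : r.Prime) (hx : x = r ^ e) (h3 : 3 ∣ x) :
    ∃ m, x = 3 ^ m := by
  subst hx
  have := (Nat.prime_dvd_prime_iff_eq Nat.prime_three hr).1 (Nat.prime_three.dvd_of_dvd_pow h3)
  exact ⟨e, by rw [this]⟩

/-- `2 ^ f` with prime power neighbours. -/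
theorem two_pow_neighbours {f r r' e e' : ℕ} (hf : 2 ≤ f) (hr : r.Prime) (hr' : r'.Prime)
    (h1 : 2 ^ f - 1 = r ^ e) (h2 : 2 ^ f + 1 = r' ^ e') : f = 2 ∨ f = 3 := by
  rcases Nat.even_or_odd f with hev | hodd
  · obtain ⟨m, hm⟩ := eq_three_pow hr h1 (three_dvd_two_pow_sub hev)
    have : 1 ≤ 2 ^ f := Nat.one_le_two_pow
    have := two_pow_eq_three_pow_add_one (show 2 ^ f = 3 ^ m + 1 by omega)
    omega
  · obtain ⟨m, hm⟩ := eq_three_pow hr' h2 (three_dvd_two_pow_succ hodd)
    rcases three_pow_eq_two_pow_add_one hm.symm with rfl | rfl <;> omega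

/-- The possible orders of the two Sylow subgroups with automiser of order two. -/
theorem congruence_cases {P Q a c A C p q ep eq : ℕ} (hp : p.Prime) (hq : q.Prime)
    (hPp : P = p ^ ep) (hQq : Q = q ^ eq) (hP : P = 2 ^ c + 1 ∨ P + 1 = 2 ^ c)
    (hQ : Q = 2 ^ a + 1 ∨ Q + 1 = 2 ^ a) (hlt : P < Q) (hP1 : 1 < P)
    (hA : A < a) (hC : C < c) (hmQ : Q ∣ 2 ^ C * P - 1) :
    (P = 3 ∧ Q = 5 ∧ C = 1) ∨ (P = 7 ∧ Q = 9 ∧ C = 2) ∨ (P = 5 ∧ Q = 9 ∧ C = 1) ∨
      (P = 9 ∧ Q = 17 ∧ C = 1) := by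
  have hpa : 1 ≤ 2 ^ a := Nat.one_le_two_pow
  have hpc : 1 ≤ 2 ^ c := Nat.one_le_two_pow
  have hQodd : Odd Q := by
    have : Even (2 ^ a) := (Nat.even_pow).2 ⟨even_two, by omega⟩
    rcases hQ with h | h
    · rw [h]; exact this.add_one
    · rw [Nat.odd_iff]; rw [Nat.even_iff] at this; omega
  have hca : c ≤ a := by
    by_contra hcon
    push Not at hcon
    have : 2 * 2 ^ a ≤ 2 ^ c := by
      rw [← pow_succ']; exact Nat.pow_le_pow_right (by norm_num) hcon
    have : 4 ≤ 2 ^ c := le_trans (by norm_num)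
      (Nat.pow_le_pow_right (show 1 ≤ 2 by norm_num) (show 2 ≤ c by omega))
    omega
  have hpos : 1 ≤ 2 ^ C * P := Nat.one_le_iff_ne_zero.2 (Nat.mul_ne_zero (by positivity) (by omega))
  -- the reduced expression
  have hbig : a ≤ C + c := by
    by_contra hcon
    push Not at hcon
    have h1 : 2 ^ C * 2 ^ c ≤ 2 ^ (a - 1) := by
      rw [← pow_add]; exact Nat.pow_le_pow_right (by norm_num) (by omega)
    have h2 : 2 * 2 ^ (a - 1) = 2 ^ a := by rw [← pow_succ']; congr 1; omega
    have h3 : 2 * 2 ^ C ≤ 2 ^ (a - 1) := by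
      rw [← pow_succ']; exact Nat.pow_le_pow_right (by norm_num) (by omega)
    have h4 : 2 ^ C * P ≤ 2 ^ C * 2 ^ c + 2 ^ C := by
      rcases hP with h | h
      · rw [h]; exact (Nat.mul_add_one _ _).le
      · calc 2 ^ C * P ≤ 2 ^ C * 2 ^ c := Nat.mul_le_mul_left _ (by omega)
          _ ≤ _ := Nat.le_add_right _ _
    have h5 : 2 ≤ 2 ^ C * P := le_trans hP1 (Nat.le_mul_of_pos_left _ (by positivity))
    have := Nat.le_of_dvd (by omega) hmQ
    omega
  obtain ⟨r, hr⟩ : ∃ r, C + c = a + r := ⟨C + c - a, by omega⟩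
  have hrC : r ≤ C := by omega
  obtain ⟨σ, hσ, hσQ⟩ : ∃ σ : ℤ, (σ = 1 ∨ σ = -1) ∧ (Q : ℤ) = 2 ^ a + σ := by
    rcases hQ with h | h
    · exact ⟨1, Or.inl rfl, by rw [h]; push_cast; ring⟩
    · refine ⟨-1, Or.inr rfl, ?_⟩
      have : (Q : ℤ) + 1 = 2 ^ a := by exact_mod_cast h
      linarith
  obtain ⟨τ, hτ, hτP⟩ : ∃ τ : ℤ, (τ = 1 ∨ τ = -1) ∧ (P : ℤ) = 2 ^ c + τ := by
    rcases hP with h | h
    · exact ⟨1, Or.inl rfl, by rw [h]; push_cast; ring⟩
    · refine ⟨-1, Or.inr rfl, ?_⟩
      have : (P : ℤ) + 1 = 2 ^ c := by exact_mod_cast h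
      linarith
  have hdvd : (Q : ℤ) ∣ -σ * 2 ^ r + τ * 2 ^ C - 1 := by
    have h1 : ((Q : ℤ)) ∣ ((2 ^ C * P - 1 : ℕ) : ℤ) := Int.natCast_dvd_natCast.2 hmQ
    rw [Nat.cast_sub hpos] at h1
    push_cast at h1
    have e : (2 : ℤ) ^ C * (P : ℤ) - 1 = (Q : ℤ) * 2 ^ r + (-σ * 2 ^ r + τ * 2 ^ C - 1) := by
      rw [hτP, hσQ]
      have : (2 : ℤ) ^ C * 2 ^ c = 2 ^ a * 2 ^ r := by rw [← pow_add, ← pow_add, hr]
      linear_combination this
    rw [e] at h1
    exact (Int.dvd_add_right (dvd_mul_right _ _)).1 h1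
  have hr' : (2 : ℤ) ^ r ≤ 2 ^ C := pow_le_pow_right₀ (by norm_num) hrC
  have hr0 : (1 : ℤ) ≤ 2 ^ r := one_le_pow₀ (by norm_num)
  have hC2 : 2 * (2 : ℤ) ^ C ≤ 2 ^ c := by
    rw [← pow_succ']; exact pow_le_pow_right₀ (by norm_num) hC
  rcases Nat.lt_or_ge c a with hcl | hcg
  · -- the reduced expression vanishes
    have hc2 : 2 * (2 : ℤ) ^ c ≤ 2 ^ a := by
      rw [← pow_succ']; exact pow_le_pow_right₀ (by norm_num) hcl
    have hzero : -σ * 2 ^ r + τ * 2 ^ C - 1 = 0 := by
      refine Int.eq_zero_of_abs_lt_dvd hdvd ?_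
      rw [abs_lt, hσQ]
      rcases hσ with rfl | rfl <;> rcases hτ with rfl | rfl <;> constructor <;> nlinarith
    have hrlt : r < C := by omega
    have hrlt' : 2 * (2 : ℤ) ^ r ≤ 2 ^ C := by
      rw [← pow_succ']; exact pow_le_pow_right₀ (by norm_num) hrlt
    rcases hσ with rfl | rfl <;> rcases hτ with rfl | rfl
    · -- `2 ^ C = 2 ^ r + 1`
      have hr1 : (2 : ℤ) ^ r ≤ 1 := by linarith
      have hr2 : (2 : ℤ) ^ r = 1 := le_antisymm hr1 hr0
      have hC1 : (2 : ℕ) ^ C = 2 ^ 1 := by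
        have : (2 : ℤ) ^ C = 2 := by linarith
        exact_mod_cast this
      obtain rfl := Nat.pow_right_injective (le_refl 2) hC1
      have hr3 : r = 0 := by omega
      subst hr3
      have hPe : P = 2 ^ c + 1 := by exact_mod_cast hτP
      have hQe : Q = 2 ^ a + 1 := by exact_mod_cast hσQ
      rcases Nat.even_or_odd c with hev | hodd
      · obtain ⟨m, hm⟩ := eq_three_pow hq hQq (hQe ▸ three_dvd_two_pow_succ
          (by rw [show a = c + 1 by omega]; exact hev.add_one))
        rcases three_pow_eq_two_pow_add_one (hm.symm.trans hQe) with ha | ha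
        · omega
        · obtain rfl : c = 2 := by omega
          subst ha
          norm_num at hPe hQe
          exact Or.inr (Or.inr (Or.inl ⟨hPe, hQe, rfl⟩))
      · obtain ⟨m, hm⟩ := eq_three_pow hp hPp (hPe ▸ three_dvd_two_pow_succ hodd)
        rcases three_pow_eq_two_pow_add_one (hm.symm.trans hPe) with ha | ha
        · omega
        · subst ha
          obtain rfl : a = 4 := by omega
          norm_num at hPe hQe
          exact Or.inr (Or.inr (Or.inr ⟨hPe, hQe, rfl⟩))
    · linarith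
    · linarith
    · linarith
  · obtain rfl : c = a := by omega
    obtain rfl : r = C := by omega
    have hPe : P + 1 = 2 ^ c := by omega
    have hQe : Q = 2 ^ c + 1 := by omega
    obtain rfl : τ = -1 := by
      rcases hτ with h | h
      · have : (P : ℤ) + 1 = 2 ^ c := by exact_mod_cast hPe
        linarith
      · exact h
    obtain rfl : σ = 1 := by
      have : (Q : ℤ) = 2 ^ c + 1 := by exact_mod_cast hQe
      linarith
    have hC' : r = c - 1 := by
      by_contra hne
      have h4 : 4 * (2 : ℤ) ^ r ≤ 2 ^ c := by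
        rw [show (4 : ℤ) * 2 ^ r = 2 ^ (r + 2) by rw [pow_add]; ring]
        exact pow_le_pow_right₀ (by norm_num) (by omega)
      have := Int.eq_zero_of_abs_lt_dvd hdvd (by rw [abs_lt, hσQ]; constructor <;> linarith)
      linarith
    rcases Nat.even_or_odd c with hev | hodd
    · obtain ⟨m, hm⟩ := eq_three_pow hp hPp (by
        have := three_dvd_two_pow_sub hev; rwa [show 2 ^ c - 1 = P by omega] at this)
      have := two_pow_eq_three_pow_add_one (show 2 ^ c = 3 ^ m + 1 by omega)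
      obtain rfl : c = 2 := by
        rcases (show c = 0 ∨ c = 1 ∨ c = 2 by omega) with h | h | h
        · omega
        · subst h; norm_num at hPe; omega
        · exact h
      norm_num at hPe hQe
      exact Or.inl ⟨by omega, hQe, by omega⟩
    · obtain ⟨m, hm⟩ := eq_three_pow hq hQq (hQe ▸ three_dvd_two_pow_succ hodd)
      rcases three_pow_eq_two_pow_add_one (hm.symm.trans hQe) with ha | ha
      · subst ha; norm_num at hPe; omega
      · subst ha
        norm_num at hPe hQe
        exact Or.inr (Or.inl ⟨by omega, hQe, by omega⟩)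

end CfsgLib.TwoPrimeClasses
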