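import Cfsg.Agent.S4160
import Cfsg.Agent.Characters.Burnside
import Mathlib.GroupTheory.Transfer
import Mathlib.GroupTheory.Solvable
import Mathlib.Algebra.Group.Subgroup.Order

/-!
# Groups whose class sizes have at most two prime divisors

The hypothesis, its inheritance by normal subgroups and quotients, and the dictionary between
class sizes prime to `r` and centralisers of Sylow `r`-subgroups.
-/

set_option autoImplicit false
set_option linter.unusedSectionVars false

namespace CfsgLib.TwoPrimeClasses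

open Subgroup
open scoped Pointwise

universe u v

variable {G : Type u} [Group G]

/-- The size of the class of `x`. -/
noncomputable abbrev cidx (x : G) : ℕ := (centralizer ({x} : Set G)).index

/-- Every class size has at most two prime divisors. -/
def TwoPrimes (G : Type u) [Group G] : Prop := ∀ x : G, (cidx x).primeFactors.card ≤ 2

/-- The element centralises some Sylow `r`-subgroup. -/
def Cent (r : ℕ) (x : G) : Prop := ∃ R : Sylow r G, x ∈ centralizer ((R : Subgroup G) : Set G)

theorem relIndex_dvd_index_normal [Finite G] (H N : Subgroup G) [N.Normal] :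
    H.relIndex N ∣ H.index := by
  have h1 : H.relIndex N = H.relIndex (H ⊔ N) := by
    have e2 := card_mul_index (H.subgroupOf N)
    have e3 := card_mul_index (H.subgroupOf (H ⊔ N))
    have h4 : Nat.card (H.subgroupOf (H ⊔ N)) = Nat.card H :=
      Nat.card_congr (subgroupOfEquivOfLe le_sup_left).toEquiv
    have h5 : Nat.card ↥(H ⊔ N) * Nat.card ↥(H ⊓ N) = Nat.card H * Nat.card N := by
      have e : Nat.card (N.subgroupOf H) = Nat.card ↥(H ⊓ N) := by
        rw [inf_comm, ← inf_subgroupOf_right N H]
        exact Nat.card_congr (subgroupOfEquivOfLe inf_le_right).toEquiv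
      have e4 := card_mul_index (N.subgroupOf H)
      have e5 := card_mul_index (N.subgroupOf (H ⊔ N))
      have e6 : Nat.card (N.subgroupOf (H ⊔ N)) = Nat.card N :=
        Nat.card_congr (subgroupOfEquivOfLe le_sup_right).toEquiv
      have e7 : (N.subgroupOf (H ⊔ N)).index = (N.subgroupOf H).index := relIndex_sup_right H N
      rw [← e5, e6, e7, ← e4, e]
      ring
    have h6 : Nat.card (H.subgroupOf N) = Nat.card ↥(H ⊓ N) := by
      rw [← inf_subgroupOf_right H N]
      exact Nat.card_congr (subgroupOfEquivOfLe inf_le_right).toEquiv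
    have hpos : 0 < Nat.card ↥(H ⊓ N) := Nat.card_pos
    change (H.subgroupOf N).index = (H.subgroupOf (H ⊔ N)).index
    rw [h4] at e3
    rw [h6] at e2
    rw [← e3, ← e2] at h5
    have hH : 0 < Nat.card H := Nat.card_pos
    refine Nat.eq_of_mul_eq_mul_left (Nat.mul_pos hH hpos) ?_
    calc Nat.card H * Nat.card ↥(H ⊓ N) * (H.subgroupOf N).index
        = Nat.card H * (Nat.card ↥(H ⊓ N) * (H.subgroupOf N).index) := by ring
      _ = Nat.card H * (H.subgroupOf (H ⊔ N)).index * Nat.card ↥(H ⊓ N) := h5.symm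
      _ = _ := by ring
  rw [h1, ← relIndex_mul_index (le_sup_left : H ≤ H ⊔ N)]
  exact dvd_mul_right _ _

theorem cidx_ne_zero [Finite G] (x : G) : cidx x ≠ 0 := index_ne_zero_of_finite

theorem cidx_dvd_of_normal [Finite G] (N : Subgroup G) [N.Normal] (x : N) :
    cidx x ∣ cidx (x : G) := by
  have e : centralizer ({x} : Set N) = (centralizer ({(x : G)} : Set G)).subgroupOf N := by
    ext y
    simp [mem_centralizer_singleton_iff, mem_subgroupOf, Subtype.ext_iff]
  rw [cidx, e]
  exact relIndex_dvd_index_normal _ N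

theorem cidx_map_dvd {G' : Type v} [Group G'] {f : G →* G'} (hf : Function.Surjective f) (x : G) :
    cidx (f x) ∣ cidx x := by
  refine dvd_trans (index_dvd_of_le ?_) (index_map_dvd (centralizer ({x} : Set G)) hf)
  rintro _ ⟨y, hy, rfl⟩
  rw [mem_centralizer_singleton_iff, ← map_mul, ← map_mul,
    mem_centralizer_singleton_iff.1 hy]

theorem TwoPrimes.of_normal [Finite G] (h : TwoPrimes G) (N : Subgroup G) [N.Normal] :
    TwoPrimes N := fun x =>
  le_trans (Finset.card_le_card (Nat.primeFactors_mono (cidx_dvd_of_normal N x) (cidx_ne_zero _)))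
    (h x)

theorem TwoPrimes.of_surjective [Finite G] {G' : Type v} [Group G'] (h : TwoPrimes G) {f : G →* G'}
    (hf : Function.Surjective f) : TwoPrimes G' := fun y => by
  obtain ⟨x, rfl⟩ := hf y
  exact le_trans (Finset.card_le_card (Nat.primeFactors_mono (cidx_map_dvd hf x) (cidx_ne_zero x)))
    (h x)

theorem TwoPrimes.not_three [Finite G] (h : TwoPrimes G) (x : G) {a b c : ℕ} (ha : a.Prime)
    (hb : b.Prime) (hc : c.Prime) (hab : a ≠ b) (hac : a ≠ c) (hbc : b ≠ c) (da : a ∣ cidx x)
    (db : b ∣ cidx x) (dc : c ∣ cidx x) : False := by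
  have h3 : ({a, b, c} : Finset ℕ) ⊆ (cidx x).primeFactors := by
    intro t ht
    rcases Finset.mem_insert.1 ht with rfl | ht
    · exact Nat.mem_primeFactors.2 ⟨ha, da, cidx_ne_zero x⟩
    rcases Finset.mem_insert.1 ht with rfl | ht
    · exact Nat.mem_primeFactors.2 ⟨hb, db, cidx_ne_zero x⟩
    obtain rfl := Finset.mem_singleton.1 ht
    exact Nat.mem_primeFactors.2 ⟨hc, dc, cidx_ne_zero x⟩
  have := (Finset.card_le_card h3).trans (h x)
  simp [hab, hac, hbc] at this

theorem mem_centralizer_of_le {r : ℕ} {R : Subgroup G} {x : G}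
    (h : R ≤ centralizer ({x} : Set G)) : x ∈ centralizer (R : Set G) :=
  mem_centralizer_iff.2 fun y hy => mem_centralizer_singleton_iff.1 (h hy)

theorem le_centralizer_of_mem {R : Subgroup G} {x : G} (h : x ∈ centralizer (R : Set G)) :
    R ≤ centralizer ({x} : Set G) := fun y hy =>
  mem_centralizer_singleton_iff.2 (mem_centralizer_iff.1 h y hy)

theorem cent_iff [Finite G] {r : ℕ} [Fact r.Prime] (x : G) : Cent r x ↔ ¬ r ∣ cidx x := by
  constructor
  · rintro ⟨R, hR⟩ hd
    exact R.not_dvd_index (hd.trans (index_dvd_of_le (le_centralizer_of_mem hR)))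
  · intro h
    obtain ⟨R, hR⟩ := Cfsg.Agent.S4160.exists_sylow_le_of_not_dvd h
    exact ⟨R, mem_centralizer_iff.mpr fun y hy => mem_centralizer_singleton_iff.mp (hR hy)⟩

/-- An element of an abelian Sylow subgroup centralises it. -/
theorem cent_of_mem {r : ℕ} {R : Sylow r G} (hab : IsMulCommutative (R : Subgroup G)) {x : G}
    (hx : x ∈ (R : Subgroup G)) : Cent r x :=
  ⟨R, mem_centralizer_iff.2 fun y hy => congrArg Subtype.val (hab.is_comm.comm ⟨y, hy⟩ ⟨x, hx⟩)⟩

theorem sylow_abelian_congr [Finite G] {r : ℕ} [Fact r.Prime] {R : Sylow r G}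
    (hab : IsMulCommutative (R : Subgroup G)) (R' : Sylow r G) :
    IsMulCommutative (R' : Subgroup G) := by
  obtain ⟨e⟩ : Nonempty ((R : Subgroup G) ≃* (R' : Subgroup G)) := ⟨R.equiv R'⟩
  exact ⟨⟨fun a b => e.symm.injective (by rw [map_mul, map_mul, hab.is_comm.comm])⟩⟩

/-- With abelian Sylow `r`-subgroups every `r`-element has class size prime to `r`. -/
theorem cent_of_pElement [Finite G] {r : ℕ} [Fact r.Prime] {R : Sylow r G}
    (hab : IsMulCommutative (R : Subgroup G)) {x : G} (hx : ∃ k, orderOf x = r ^ k) : Cent r x := by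
  obtain ⟨k, hk⟩ := hx
  have hp : IsPGroup r (zpowers x) := IsPGroup.of_card (n := k) (by rw [Nat.card_zpowers, hk])
  obtain ⟨R', hR'⟩ := hp.exists_le_sylow
  exact cent_of_mem (sylow_abelian_congr hab R') (hR' (mem_zpowers x))

theorem conj_mem_centralizer {H : Subgroup G} {x : G} (g : G)
    (hx : x ∈ centralizer (H : Set G)) :
    g * x * g⁻¹ ∈ centralizer ((H.map (MulAut.conj g).toMonoidHom : Subgroup G) : Set G) := by
  rw [mem_centralizer_iff]
  rintro _ ⟨y, hy, rfl⟩
  have := mem_centralizer_iff.1 hx y hy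
  simp only [MulEquiv.coe_toMonoidHom, MulAut.conj_apply]
  calc g * y * g⁻¹ * (g * x * g⁻¹) = g * (y * x) * g⁻¹ := by group
    _ = g * (x * y) * g⁻¹ := by rw [this]
    _ = g * x * g⁻¹ * (g * y * g⁻¹) := by group

end CfsgLib.TwoPrimeClasses
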