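import Cfsg.Agent.TwoPrimeClasses.Local
import Cfsg.Agent.TwoPrimeClasses.Arith

/-!
# All Sylow subgroups abelian: commuting is transitive
-/

set_option autoImplicit false
set_option linter.unusedSectionVars false
set_option linter.style.haveILetI false

namespace CfsgLib.TwoPrimeClasses

open Subgroup CfsgLib.CAGroups

universe u

variable {G : Type u} [Group G] [Finite G] {p q s : ℕ}

/-- Commuting elements of different prime orders do not occur. -/
theorem Setup.no_mixed_prime (E : Setup G p q s)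
    (hab : ∀ (r : ℕ), r.Prime → ∀ R : Sylow r G, IsMulCommutative (R : Subgroup G))
    {a b : ℕ} (ha : a.Prime) (hb : b.Prime) (hne : a ≠ b) {x y : G} (hx : orderOf x = a)
    (hy : orderOf y = b) (hxy : Commute x y) : False := by
  have hx1 : x ≠ 1 := fun e => by rw [e, orderOf_one] at hx; exact ha.ne_one hx.symm
  have hy1 : y ≠ 1 := fun e => by rw [e, orderOf_one] at hy; exact hb.ne_one hy.symm
  have key : ∀ {p' q' s' : ℕ}, Setup G p' q' s' → a = p' → b = q' → False := by
    intro p' q' s' E' e1 e2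
    subst e1 e2
    obtain ⟨P⟩ : Nonempty (Sylow a G) := inferInstance
    obtain ⟨Q⟩ : Nonempty (Sylow b G) := inferInstance
    exact E'.no_mixed P (hab _ ha P) Q (hab _ hb Q) ⟨1, by rw [hx, pow_one]⟩
      ⟨1, by rw [hy, pow_one]⟩ hx1 hy1 hxy
  rcases E.dvd_cases ha (hx ▸ orderOf_dvd_natCard x) with ea | ea | ea <;>
    rcases E.dvd_cases hb (hy ▸ orderOf_dvd_natCard y) with eb | eb | eb <;>
    first
      | exact hne (ea.trans eb.symm)
      | exact key E ea eb
      | exact key E.swap ea eb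
      | exact key E.rot ea eb
      | exact key E.rot.swap ea eb
      | exact key E.rot.rot ea eb
      | exact key E.rot.rot.swap ea eb

/-- The centralisers of the non-trivial elements are primary. -/
theorem Setup.isPGroup_centralizer (E : Setup G p q s)
    (hab : ∀ (r : ℕ), r.Prime → ∀ R : Sylow r G, IsMulCommutative (R : Subgroup G))
    {x : G} (hx : x ≠ 1) :
    ∃ r : ℕ, r.Prime ∧ IsPGroup r (centralizer ({x} : Set G)) := by
  obtain ⟨a, ha, had⟩ := Nat.exists_prime_and_dvd (fun e => hx (orderOf_eq_one_iff.1 e))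
  haveI := Fact.mk ha
  refine ⟨a, ha, IsPGroup.iff_orderOf.2 fun y => ⟨(orderOf y).primeFactorsList.length,
    Nat.eq_prime_pow_of_unique_prime_dvd (orderOf_pos y).ne' fun {d} hd hdd => ?_⟩⟩
  by_contra hne
  refine E.no_mixed_prime hab ha hd (Ne.symm hne)
    (orderOf_pow_orderOf_div (orderOf_pos x).ne' had)
    (orderOf_pow_orderOf_div (orderOf_pos (y : G)).ne' (by rwa [orderOf_coe]))
    (Commute.pow_pow ?_ _ _)
  exact (mem_centralizer_singleton_iff.1 y.2 : Commute (y : G) x).symm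

theorem Setup.commTransitive (E : Setup G p q s)
    (hab : ∀ (r : ℕ), r.Prime → ∀ R : Sylow r G, IsMulCommutative (R : Subgroup G)) :
    CommTransitive G := by
  intro a b c ha hb hc h1 h2
  obtain ⟨r, hr, hP⟩ := E.isPGroup_centralizer hab hb
  haveI := Fact.mk hr
  obtain ⟨R, hR⟩ := hP.exists_le_sylow
  exact congrArg Subtype.val ((hab r hr R).is_comm.comm
    ⟨a, hR (mem_centralizer_singleton_iff.2 h1)⟩
    ⟨c, hR (mem_centralizer_singleton_iff.2 h2.symm)⟩)

/-- With abelian Sylow subgroups the centralisers are the Sylow subgroups. -/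
theorem Setup.centralizer_eq_sylow (E : Setup G p q s)
    (hab : ∀ (r : ℕ), r.Prime → ∀ R : Sylow r G, IsMulCommutative (R : Subgroup G))
    {r : ℕ} (hr : r.Prime) (R : Sylow r G) {x : G} (hxR : x ∈ (R : Subgroup G)) (hx : x ≠ 1) :
    centralizer ({x} : Set G) = (R : Subgroup G) := by
  haveI := Fact.mk hr
  have hle : (R : Subgroup G) ≤ centralizer ({x} : Set G) := fun y hy =>
    mem_centralizer_singleton_iff.2
      (congrArg Subtype.val ((hab r hr R).is_comm.comm ⟨y, hy⟩ ⟨x, hxR⟩))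
  obtain ⟨a, ha, hP⟩ := E.isPGroup_centralizer hab hx
  haveI := Fact.mk ha
  have har : a = r := by
    obtain ⟨k, hk⟩ := IsPGroup.iff_orderOf.1 hP ⟨x, hle hxR⟩
    obtain ⟨l, hl⟩ := IsPGroup.iff_orderOf.1 R.2 ⟨x, hxR⟩
    rw [orderOf_mk] at hk hl
    have hk0 : k ≠ 0 := fun e => hx (orderOf_eq_one_iff.1 (by rw [hk, e, pow_zero]))
    exact (Nat.prime_dvd_prime_iff_eq ha hr).1
      (ha.dvd_of_dvd_pow (n := l) (by rw [← hl, hk]; exact dvd_pow_self a hk0))
  subst har
  exact R.3 hP hle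

/-- With abelian Sylow subgroups the order is 60 or 504. -/
theorem Setup.card_of_abelian (E : Setup G p q s)
    (hab : ∀ (r : ℕ), r.Prime → ∀ R : Sylow r G, IsMulCommutative (R : Subgroup G)) :
    Nat.card G = 60 ∨ Nat.card G = 504 := by
  classical
  haveI := E.simple
  obtain ⟨F, iF, iFt, f, hf, hcard, ⟨e⟩⟩ := (iff_psl2 E.noncomm).1 (E.commTransitive hab)
  haveI : CharP F 2 := by
    haveI : Fact (Nat.Prime 2) := ⟨Nat.prime_two⟩
    exact charP_of_card_eq_prime_pow hcard
  have hN : Nat.card G = 2 ^ f * ((2 ^ f) ^ 2 - 1) := by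
    rw [Nat.card_congr (e.trans sl2EquivPSL2.symm).toEquiv, CfsgLib.Linear.card_SL_two, hcard]
  have h4 : 4 ≤ 2 ^ f :=
    le_trans (by norm_num) (Nat.pow_le_pow_right (show 1 ≤ 2 by norm_num) hf)
  have hN' : Nat.card G = 2 ^ f * ((2 ^ f + 1) * (2 ^ f - 1)) := by
    rw [hN]
    congr 1
    have h := Nat.sq_sub_sq (2 ^ f) 1
    rwa [one_pow] at h
  have hev : Even (2 ^ f) := (Nat.even_pow).2 ⟨even_two, by omega⟩
  have h2mem : 2 ∈ ({p, q, s} : Finset ℕ) := E.primes ▸ Nat.mem_primeFactors.2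
    ⟨Nat.prime_two, hN' ▸ Dvd.dvd.mul_right (dvd_pow_self 2 (by omega)) _, Nat.card_pos.ne'⟩
  have hd1 : ∀ d : ℕ, d.Prime → d ∣ 2 ^ f + 1 → d ∣ 2 ^ f - 1 → False := by
    intro d hd h1 h2
    have h3 := Nat.dvd_sub h1 h2
    rw [show 2 ^ f + 1 - (2 ^ f - 1) = 2 by omega] at h3
    obtain rfl := (Nat.prime_dvd_prime_iff_eq hd Nat.prime_two).1 h3
    rw [Nat.even_iff] at hev
    omega
  have hdvd : ∀ d : ℕ, d ∣ 2 ^ f + 1 ∨ d ∣ 2 ^ f - 1 → d ∣ Nat.card G := fun d h => by
    rw [hN']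
    exact Dvd.dvd.mul_left (h.elim (fun h => Dvd.dvd.mul_right h _) fun h => Dvd.dvd.mul_left h _) _
  obtain ⟨u, hu, hud⟩ := Nat.exists_prime_and_dvd (show 2 ^ f + 1 ≠ 1 by omega)
  obtain ⟨w, hw, hwd⟩ := Nat.exists_prime_and_dvd (show 2 ^ f - 1 ≠ 1 by omega)
  have hu2 : u ≠ 2 := fun e => by
    subst e; rw [Nat.even_iff] at hev; omega
  have hw2 : w ≠ 2 := fun e => by
    subst e; rw [Nat.even_iff] at hev; omega
  have huw : u ≠ w := fun e => hd1 u hu hud (e ▸ hwd)
  have hset : (Nat.card G).primeFactors = {2, u, w} := by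
    refine (Finset.eq_of_subset_of_card_le ?_ ?_).symm
    · intro t ht
      rcases Finset.mem_insert.1 ht with rfl | ht
      · exact E.primes ▸ h2mem
      rcases Finset.mem_insert.1 ht with rfl | ht
      · exact Nat.mem_primeFactors.2 ⟨hu, hdvd _ (Or.inl hud), Nat.card_pos.ne'⟩
      · obtain rfl := Finset.mem_singleton.1 ht
        exact Nat.mem_primeFactors.2 ⟨hw, hdvd _ (Or.inr hwd), Nat.card_pos.ne'⟩
    · rw [E.primes, show ({2, u, w} : Finset ℕ).card = 3 by
        rw [Finset.card_insert_of_notMem (by simp [Ne.symm hu2, Ne.symm hw2]),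
          Finset.card_pair huw]]
      exact Finset.card_le_three
  have hpow : ∀ m d : ℕ, d.Prime → m ≠ 0 → (∀ t : ℕ, t.Prime → t ∣ m → t = d) →
      ∃ e, m = d ^ e := fun m d _ hm h =>
    ⟨_, Nat.eq_prime_pow_of_unique_prime_dvd hm fun {t} ht htd => h t ht htd⟩
  have hcases : ∀ t : ℕ, t.Prime → (t ∣ 2 ^ f + 1 ∨ t ∣ 2 ^ f - 1) → t = u ∨ t = w := by
    intro t ht htd
    have hm : t ∈ (Nat.card G).primeFactors :=
      Nat.mem_primeFactors.2 ⟨ht, hdvd _ htd, Nat.card_pos.ne'⟩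
    rw [hset] at hm
    simp only [Finset.mem_insert, Finset.mem_singleton] at hm
    rcases hm with rfl | hm
    · exfalso
      rw [Nat.even_iff] at hev
      omega
    · exact hm
  obtain ⟨e1, he1⟩ := hpow (2 ^ f - 1) w hw (by omega) fun t ht htd =>
    (hcases t ht (Or.inr htd)).resolve_left fun e => hd1 t ht (e ▸ hud) htd
  obtain ⟨e2, he2⟩ := hpow (2 ^ f + 1) u hu (by omega) fun t ht htd =>
    (hcases t ht (Or.inl htd)).resolve_right fun e => hd1 t ht htd (e ▸ hwd)
  rcases two_pow_neighbours hf hw hu he1 he2 with rfl | rfl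
  · left; rw [hN]; norm_num
  · right; rw [hN]; norm_num

end CfsgLib.TwoPrimeClasses
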