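import Cfsg.Agent.TwoPrimeClasses.Basic

/-!
# Counting elements that centralise a Sylow subgroup

In a non-abelian simple group with at most two prime divisors in every class size the order has
exactly three prime divisors, and for one odd prime the automiser of a Sylow subgroup has order 2.
-/

set_option autoImplicit false
set_option linter.unusedSectionVars false
set_option linter.style.haveILetI false

namespace CfsgLib.TwoPrimeClasses

open Subgroup

universe u

variable {G : Type u} [Group G] [Finite G]

/-- The index of the centraliser of a Sylow subgroup in its normaliser. -/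
noncomputable def autoOrder {r : ℕ} (R : Sylow r G) : ℕ :=
  (centralizer ((R : Subgroup G) : Set G)).relIndex (normalizer ((R : Subgroup G) : Set G))

theorem autoOrder_mul {r : ℕ} [Fact r.Prime] (R : Sylow r G) :
    Nat.card (Sylow r G) * Nat.card (centralizer ((R : Subgroup G) : Set G)) * autoOrder R =
      Nat.card G := by
  rw [← (centralizer ((R : Subgroup G) : Set G)).card_mul_index,
    ← relIndex_mul_index (centralizer_le_normalizer ((R : Subgroup G) : Set G)),
    R.card_eq_index_normalizer, autoOrder]
  simp only [Sylow.coe_coe]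
  ring

theorem card_cent_add_le {r : ℕ} [Fact r.Prime] (R : Sylow r G) :
    Nat.card {x : G // x ≠ 1 ∧ Cent r x} + Nat.card (Sylow r G) ≤
      Nat.card (Sylow r G) * Nat.card (centralizer ((R : Subgroup G) : Set G)) := by
  classical
  obtain ⟨g, hg⟩ := Cfsg.Agent.S4160.exists_code R
  set C := centralizer ((R : Subgroup G) : Set G)
  choose f hf using fun x : {x : G // x ≠ 1 ∧ Cent r x} => x.2.2
  let φ : {x : G // x ≠ 1 ∧ Cent r x} ⊕ Sylow r G → Sylow r G × C := fun s =>
    s.elim (fun x => (f x, ⟨_, hg _ _ (hf x)⟩)) fun R' => (R', 1)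
  have hφ : Function.Injective φ := by
    rintro (x | a) (y | b) e
    · simp only [φ, Sum.elim_inl, Prod.mk.injEq, Subtype.mk.injEq] at e
      obtain ⟨e1, e2⟩ := e
      rw [e1] at e2
      exact congrArg Sum.inl (Subtype.ext (mul_left_cancel (mul_right_cancel e2)))
    · exfalso
      simp only [φ, Sum.elim_inl, Sum.elim_inr, Prod.mk.injEq] at e
      exact x.2.1 (Cfsg.Agent.S4160.eq_one_of_conj (congrArg Subtype.val e.2 :))
    · exfalso
      simp only [φ, Sum.elim_inl, Sum.elim_inr, Prod.mk.injEq] at e
      exact y.2.1 (Cfsg.Agent.S4160.eq_one_of_conj (congrArg Subtype.val e.2.symm :))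
    · simp only [φ, Sum.elim_inr, Prod.mk.injEq] at e
      exact congrArg Sum.inr e.1
  have h := Nat.card_le_card_of_injective φ hφ
  rwa [Nat.card_sum, Nat.card_prod] at h

theorem two_le_autoOrder [IsSimpleGroup G] (hG : ¬ IsMulCommutative G) {r : ℕ} [Fact r.Prime]
    (hr : r ∣ Nat.card G) (R : Sylow r G) : 2 ≤ autoOrder R := by
  have h0 : autoOrder R ≠ 0 := index_ne_zero_of_finite
  rcases Nat.lt_or_ge (autoOrder R) 2 with h | h
  · exfalso
    have h1 : autoOrder R = 1 := by omega
    rw [autoOrder, relIndex_eq_one] at h1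
    have hcompl := MonoidHom.ker_transferSylow_isComplement' R h1
    rcases (inferInstance : (MonoidHom.transferSylow R h1).ker.Normal).eq_bot_or_eq_top with hb | ht
    · rw [hb, isComplement'_bot_left] at hcompl
      have hp : IsPGroup r G := (hcompl ▸ R.2 : IsPGroup r (⊤ : Subgroup G)).of_equiv topEquiv
      haveI : Nontrivial G := IsSimpleGroup.toNontrivial
      have hc := hp.center_nontrivial
      exact hG ⟨⟨fun x y => mem_center_iff.1
        ((((inferInstance : (center G).Normal).eq_bot_or_eq_top.resolve_left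
          ((nontrivial_iff_ne_bot _).1 hc))) ▸ mem_top y) x⟩⟩
    · rw [ht, isComplement'_top_left] at hcompl
      exact R.ne_bot_of_dvd_card hr hcompl
  · exact h

theorem autoOrder_not_dvd {r : ℕ} [Fact r.Prime] (R : Sylow r G)
    (hab : IsMulCommutative (R : Subgroup G)) : ¬ r ∣ autoOrder R := fun h => by
  have hRC : (R : Subgroup G) ≤ centralizer ((R : Subgroup G) : Set G) := fun x hx =>
    mem_centralizer_iff.2 fun y hy => congrArg Subtype.val (hab.is_comm.comm ⟨y, hy⟩ ⟨x, hx⟩)
  refine R.not_dvd_index ((h.trans ?_).trans (index_dvd_of_le hRC))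
  rw [← relIndex_mul_index (centralizer_le_normalizer ((R : Subgroup G) : Set G))]
  exact dvd_mul_right _ _

theorem sq_le_autoOrder {r : ℕ} [Fact r.Prime] (R : Sylow r G)
    (hab : ¬ IsMulCommutative (R : Subgroup G)) : r ^ 2 ≤ autoOrder R := by
  have hr : r.Prime := Fact.out
  have h1 : (centralizer ((R : Subgroup G) : Set G)).relIndex (R : Subgroup G) =
      (center (R : Subgroup G)).index := by
    rw [relIndex]
    congr 1
    ext y
    simp only [mem_subgroupOf, mem_centralizer_iff, SetLike.mem_coe, mem_center_iff,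
      Subtype.forall, Subtype.ext_iff, coe_mul]
  have h2 : (centralizer ((R : Subgroup G) : Set G)).relIndex (R : Subgroup G) ≤ autoOrder R :=
    relIndex_le_of_le_right le_normalizer index_ne_zero_of_finite
  refine le_trans ?_ h2
  rw [h1]
  obtain ⟨m, hm⟩ := IsPGroup.iff_card.1 R.2
  obtain ⟨k, -, hk⟩ := (Nat.dvd_prime_pow hr).1
    (hm ▸ index_dvd_card (center (R : Subgroup G)))
  rw [hk]
  refine Nat.pow_le_pow_right hr.pos ?_
  by_contra hlt
  apply hab
  haveI hcyc : IsCyclic ((R : Subgroup G) ⧸ center (R : Subgroup G)) := by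
    rcases (show k = 0 ∨ k = 1 by omega) with rfl | rfl
    · haveI : Subsingleton ((R : Subgroup G) ⧸ center (R : Subgroup G)) := by
        refine (Nat.card_eq_one_iff_unique.1 ?_).1
        rw [← index_eq_card, hk, pow_zero]
      infer_instance
    · exact isCyclic_of_prime_card (p := r) (by rw [← index_eq_card, hk, pow_one])
  exact MonoidHom.isMulCommutative_of_isCyclic_of_ker_le_center
    (QuotientGroup.mk' (center (R : Subgroup G))) (by rw [QuotientGroup.ker_mk'])

theorem three_le_autoOrder_two [IsSimpleGroup G] (hG : ¬ IsMulCommutative G)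
    (h2 : 2 ∣ Nat.card G) (R : Sylow 2 G) : 3 ≤ autoOrder R := by
  haveI : Fact (Nat.Prime 2) := ⟨Nat.prime_two⟩
  by_cases hab : IsMulCommutative (R : Subgroup G)
  · have := two_le_autoOrder hG h2 R
    have := autoOrder_not_dvd R hab
    omega
  · have := sq_le_autoOrder R hab
    omega

theorem sylow_comm_of_autoOrder_lt {r : ℕ} [Fact r.Prime] (R : Sylow r G)
    (h : autoOrder R < r ^ 2) : IsMulCommutative (R : Subgroup G) := by
  by_contra hab
  exact absurd (sq_le_autoOrder R hab) (by omega)

variable (h : TwoPrimes G)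
include h

/-- The basic count: each element misses at most two of the primes. -/
theorem count_bound (e : ℕ → ℕ) (he : ∀ r : ℕ, r.Prime → r ∣ Nat.card G → ∃ R : Sylow r G,
      e r ≤ autoOrder R) (he0 : ∀ r ∈ (Nat.card G).primeFactors, 0 < e r) :
    ((Nat.card G).primeFactors.card - 2) * (Nat.card G - 1) + (Nat.card G).primeFactors.card ≤
      ∑ r ∈ (Nat.card G).primeFactors, Nat.card G / e r := by
  classical
  haveI := Fintype.ofFinite G
  set π := (Nat.card G).primeFactors
  let E : Finset G := Finset.univ.erase 1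
  have hE : E.card = Nat.card G - 1 := by
    rw [Nat.card_eq_fintype_card, ← Finset.card_univ]
    exact Finset.card_erase_of_mem (Finset.mem_univ 1)
  have hlow : ∀ x ∈ E, π.card - 2 ≤ (π.filter fun r => Cent r x).card := by
    intro x _
    have h1 := Finset.card_filter_add_card_filter_not (s := π) (fun r => Cent r x)
    have h2 : (π.filter fun r => ¬ Cent r x).card ≤ 2 := by
      refine le_trans (Finset.card_le_card fun r hr => ?_) (h x)
      obtain ⟨hr, hn⟩ := Finset.mem_filter.1 hr
      haveI := Fact.mk (Nat.prime_of_mem_primeFactors hr)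
      rw [cent_iff, not_not] at hn
      exact Nat.mem_primeFactors.2 ⟨Nat.prime_of_mem_primeFactors hr, hn, cidx_ne_zero x⟩
    omega
  have hdouble : ∑ x ∈ E, (π.filter fun r => Cent r x).card =
      ∑ r ∈ π, (E.filter fun x => Cent r x).card := by
    simp only [Finset.card_filter]
    exact Finset.sum_comm
  have hup : ∀ r ∈ π, (E.filter fun x => Cent r x).card + 1 ≤ Nat.card G / e r := by
    intro r hr
    obtain ⟨hrp, hrd, -⟩ := Nat.mem_primeFactors.1 hr
    haveI := Fact.mk hrp
    obtain ⟨R, hR⟩ := he r hrp hrd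
    have e1 : (E.filter fun x => Cent r x).card = Nat.card {x : G // x ≠ 1 ∧ Cent r x} := by
      rw [Nat.card_eq_fintype_card, Fintype.card_subtype]
      congr 1
      ext x
      simp [E]
    have h1 := card_cent_add_le R
    have h2 : 0 < Nat.card (Sylow r G) := Nat.card_pos
    rw [Nat.le_div_iff_mul_le (he0 r hr), e1, ← autoOrder_mul R]
    exact Nat.mul_le_mul (by omega) hR
  calc (π.card - 2) * (Nat.card G - 1) + π.card
      = ∑ _x ∈ E, (π.card - 2) + π.card := by rw [Finset.sum_const, smul_eq_mul, hE, mul_comm]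
    _ ≤ ∑ r ∈ π, (E.filter fun x => Cent r x).card + π.card := by
        rw [← hdouble]; exact Nat.add_le_add_right (Finset.sum_le_sum hlow) _
    _ = ∑ r ∈ π, ((E.filter fun x => Cent r x).card + 1) := by
        rw [Finset.sum_add_distrib, Finset.sum_const, smul_eq_mul, mul_one]
    _ ≤ _ := Finset.sum_le_sum hup

theorem card_primeFactors_eq_three [IsSimpleGroup G] (hG : ¬ IsMulCommutative G) :
    (Nat.card G).primeFactors.card = 3 := by
  classical
  set g := Nat.card G
  set π := g.primeFactors with hπ
  have hg0 : g ≠ 0 := Nat.card_pos.ne'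
  have hns : ¬ Group.IsSolvable G := fun hs => hG ⟨⟨fun a b =>
    (IsSimpleGroup.comm_iff_isSolvable.2 hs) a b⟩⟩
  have h3 : 3 ≤ π.card := by
    by_contra hlt
    apply hns
    rcases (show π.card = 0 ∨ π.card = 1 ∨ π.card = 2 by omega) with h0 | h0 | h0
    · rw [Finset.card_eq_zero, hπ, Nat.primeFactors_eq_empty] at h0
      rcases h0 with h0 | h0
      · exact absurd h0 hg0
      · haveI := (Nat.card_eq_one_iff_unique.1 h0).1
        infer_instance
    · obtain ⟨p, hp⟩ := Finset.card_eq_one.1 h0
      have hpp : p.Prime := Nat.prime_of_mem_primeFactors (n := g) (by rw [← hπ, hp]; simp)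
      haveI := Fact.mk hpp
      have : IsPGroup p G := IsPGroup.of_card (n := g.factorization p) (by
        conv_lhs => rw [show Nat.card G = g from rfl, ← Nat.prod_factorization_pow_eq_self hg0]
        rw [Finsupp.prod, Nat.support_factorization, ← hπ, hp, Finset.prod_singleton])
      haveI := this.isNilpotent
      infer_instance
    · obtain ⟨p, q, hpq, hp⟩ := Finset.card_eq_two.1 h0
      refine CfsgLib.Characters.isSolvable_of_card_eq_primePow_mul p q (g.factorization p)
        (g.factorization q) (Nat.prime_of_mem_primeFactors (n := g) (by rw [← hπ, hp]; simp))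
        (Nat.prime_of_mem_primeFactors (n := g) (by rw [← hπ, hp]; simp)) ?_
      conv_lhs => rw [show Nat.card G = g from rfl, ← Nat.prod_factorization_pow_eq_self hg0]
      rw [Finsupp.prod, Nat.support_factorization, ← hπ, hp, Finset.prod_pair hpq]
  by_contra hne
  have h4 : 4 ≤ π.card := by omega
  have hb := count_bound h (fun r => if r = 2 then 3 else 2) (fun r hr hd => by
      haveI := Fact.mk hr
      obtain ⟨R⟩ : Nonempty (Sylow r G) := inferInstance
      refine ⟨R, ?_⟩
      split_ifs with h2
      · subst h2; exact three_le_autoOrder_two hG hd R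
      · exact two_le_autoOrder hG hd R) (fun r _ => by split_ifs <;> norm_num)
  have hs : 6 * ∑ r ∈ π, g / (if r = 2 then 3 else 2) + (if 2 ∈ π then g else 0) ≤
      π.card * (3 * g) := by
    have : ∀ r ∈ π, 6 * (g / (if r = 2 then 3 else 2)) + (if r = 2 then g else 0) ≤ 3 * g := by
      intro r _
      split_ifs
      · have := Nat.div_mul_le_self g 3; omega
      · have := Nat.div_mul_le_self g 2; omega
    have h' := Finset.sum_le_sum this
    rw [Finset.sum_add_distrib, ← Finset.mul_sum, Finset.sum_ite_eq', Finset.sum_const,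
      smul_eq_mul] at h'
    exact h'
  have h2 : 2 ∈ π := by
    by_contra h2
    have hodd : Odd g := by
      rw [Nat.odd_iff]
      by_contra hodd
      exact h2 (Nat.mem_primeFactors.2 ⟨Nat.prime_two, Nat.dvd_of_mod_eq_zero (by omega), hg0⟩)
    -- without the even prime the bound is still contradictory
    have h5 : 6 * ∑ r ∈ π, g / (if r = 2 then 3 else 2) ≤ π.card * (3 * g) := by
      rw [if_neg h2, add_zero] at hs; exact hs
    obtain ⟨k, hk⟩ : ∃ k, π.card = k + 4 := ⟨π.card - 4, by omega⟩
    have hb' : (k + 2) * (g - 1) + (k + 4) ≤ ∑ r ∈ π, g / (if r = 2 then 3 else 2) := by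
      have := hb
      rw [hk, show k + 4 - 2 = k + 2 by omega] at this
      exact this
    rw [hk] at h5
    obtain ⟨g', hg'⟩ : ∃ g', g = g' + 1 := ⟨g - 1, by omega⟩
    simp only [hg', Nat.add_sub_cancel] at hb' h5
    have : 6 * ((k + 2) * g' + (k + 4)) ≤ (k + 4) * (3 * (g' + 1)) :=
      le_trans (Nat.mul_le_mul_left 6 hb') h5
    nlinarith
  rw [if_pos h2] at hs
  obtain ⟨k, hk⟩ : ∃ k, π.card = k + 4 := ⟨π.card - 4, by omega⟩
  obtain ⟨g', hg'⟩ : ∃ g', g = g' + 1 := ⟨g - 1, by omega⟩
  have hb' : (k + 2) * (g - 1) + (k + 4) ≤ ∑ r ∈ π, g / (if r = 2 then 3 else 2) := by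
    have := hb
    rw [hk, show k + 4 - 2 = k + 2 by omega] at this
    exact this
  rw [hk] at hs
  simp only [hg', Nat.add_sub_cancel] at hb' hs
  have h6 := Nat.mul_le_mul_left 6 hb'
  nlinarith

/-- Some odd prime has an automiser of order two. -/
theorem exists_autoOrder_two [IsSimpleGroup G] (hG : ¬ IsMulCommutative G) :
    ∃ p : ℕ, ∃ _ : Fact p.Prime, p ≠ 2 ∧ p ∣ Nat.card G ∧ ∀ R : Sylow p G, autoOrder R = 2 := by
  classical
  by_contra hcon
  push Not at hcon
  have h3 := card_primeFactors_eq_three h hG
  have hb := count_bound h (fun _ => 3) (fun r hr hd => by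
      haveI := Fact.mk hr
      by_cases h2 : r = 2
      · subst h2
        obtain ⟨R⟩ : Nonempty (Sylow 2 G) := inferInstance
        exact ⟨R, three_le_autoOrder_two hG hd R⟩
      · obtain ⟨R, hR⟩ := hcon r ⟨hr⟩ h2 hd
        exact ⟨R, by have := two_le_autoOrder hG hd R; omega⟩) (fun _ _ => by norm_num)
  rw [Finset.sum_const, smul_eq_mul, h3] at hb
  have := Nat.div_mul_le_self (Nat.card G) 3
  have : 0 < Nat.card G := Nat.card_pos
  omega

/-- With three primes, one having automiser of order two, the other two are small. -/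
theorem autoOrder_bound [IsSimpleGroup G] (hG : ¬ IsMulCommutative G) {p q s : ℕ} [Fact p.Prime]
    [Fact q.Prime] [Fact s.Prime] (hπ : (Nat.card G).primeFactors = {p, q, s})
    (hpq : p ≠ q) (hps : p ≠ s) (hqs : q ≠ s)
    (P : Sylow p G) (Q : Sylow q G) (S : Sylow s G) {a b c : ℕ} (ha : a ≤ autoOrder P)
    (hb : b ≤ autoOrder Q) (hc : c ≤ autoOrder S) (ha0 : 0 < a) (hb0 : 0 < b) (hc0 : 0 < c) :
    Nat.card G + 2 ≤ Nat.card G / a + Nat.card G / b + Nat.card G / c := by
  classical
  have hmem : ∀ t ∈ ({p, q, s} : Finset ℕ), t = p ∨ t = q ∨ t = s := fun t ht => by simpa using ht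
  have hb' := count_bound h (fun t => if t = p then a else if t = q then b else c) (fun t ht hd => by
      rcases hmem t (hπ ▸ Nat.mem_primeFactors.2 ⟨ht, hd, Nat.card_pos.ne'⟩) with rfl | rfl | rfl
      · exact ⟨P, by simpa using ha⟩
      · exact ⟨Q, by simpa [hpq.symm] using hb⟩
      · exact ⟨S, by simpa [hps.symm, hqs.symm] using hc⟩)
    (fun t _ => by split_ifs <;> assumption)
  rw [hπ, Finset.sum_insert (by simp [hpq, hps]), Finset.sum_pair hqs,
    Finset.card_insert_of_notMem (by simp [hpq, hps]), Finset.card_pair hqs] at hb'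
  simp only [if_pos, if_neg hpq.symm, if_neg hps.symm, if_neg hqs.symm] at hb'
  have : 0 < Nat.card G := Nat.card_pos
  omega

end CfsgLib.TwoPrimeClasses
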