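import Cfsg.Agent.TwoPrimeClasses.Simple
import Cfsg.Agent.Small.OrderTools
import Cfsg.Agent.S1011
import Mathlib.FieldTheory.Finite.GaloisField

/-!
# Two automisers of order two and a non-abelian Sylow 2-subgroup: impossible
-/

set_option autoImplicit false
set_option linter.unusedSectionVars false
set_option linter.style.haveILetI false

namespace CfsgLib.TwoPrimeClasses

open Subgroup CfsgLib.Characters

universe u

variable {G : Type u} [Group G]

namespace TICtx

variable [Finite G] {q : ℕ} [Fact q.Prime] {Q : Sylow q G} (T : TICtx Q)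
include T

theorem eq_one_of_fix {c : (Q : Subgroup G)} {a : G ⧸ nP Q}
    (ha : a ≠ ((1 : G) : G ⧸ nP Q)) (hc : c • a = a) : c = 1 := by
  induction a using QuotientGroup.induction_on with
  | _ g =>
    have h1 : g⁻¹ * (c : G) * g ∈ nP Q := by
      have h : (((c : G) * g : G) : G ⧸ nP Q) = g := hc
      rw [eq_comm, QuotientGroup.eq, ← mul_assoc] at h
      exact h
    by_contra hc1
    have hc' : (c : G) ≠ 1 := fun e => hc1 (Subtype.ext e)
    have hQ : g⁻¹ * (c : G) * g ∈ (Q : Subgroup G) := by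
      have hpg : IsPGroup q (zpowers (g⁻¹ * (c : G) * g)) := by
        obtain ⟨k, hk⟩ := IsPGroup.iff_orderOf.1 Q.2 c
        refine IsPGroup.of_card (n := k) ?_
        rw [Nat.card_zpowers, ← hk, ← orderOf_coe]
        exact (SemiconjBy.orderOf_eq (a := g⁻¹) (x := (c : G)) (y := g⁻¹ * (c : G) * g) (by
          simp [SemiconjBy, mul_assoc])).symm
      have h := hpg.inf_normalizer_sylow Q
      have hm : g⁻¹ * (c : G) * g ∈ zpowers (g⁻¹ * (c : G) * g) ⊓ nP Q := ⟨mem_zpowers _, h1⟩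
      exact (h.le hm).2
    have hy : T.proj ⟨(c : G), T.le_cP c.2⟩ ≠ 1 := by
      rw [T.proj_ne_one_iff]
      intro e
      exact hc1 (T.pow_res_injective (a := c) (b := 1) (Subtype.ext (by simpa using e)))
    have hg := T.mem_nP_of_conj ⟨(c : G), T.le_cP c.2⟩ hy (T.le_cP hQ)
    exact ha (QuotientGroup.eq.2 (by simpa using inv_mem hg))

theorem card_dvd_index_sub_one :
    Nat.card (Q : Subgroup G) ∣ (nP Q).index - 1 := by
  classical
  have h := card_dvd_ncard_of_free (H := (Q : Subgroup G)) ({((1 : G) : G ⧸ nP Q)}ᶜ : Set (G ⧸ nP Q))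
    (fun c a ha hca => ha ?_) fun c a ha hc => T.eq_one_of_fix ha hc
  · rwa [Set.ncard_compl, Set.ncard_singleton, ← index_eq_card] at h
  · have e : a = c⁻¹ • (c • a) := (inv_smul_smul c a).symm
    rw [Set.mem_singleton_iff] at hca ⊢
    rw [e, hca]
    show ((((c : G)⁻¹ : G) * 1 : G) : G ⧸ nP Q) = _
    rw [QuotientGroup.eq]
    simp only [mul_one, inv_inv]
    exact le_normalizer c.2

theorem one_lt_card (hq : q ∣ Nat.card G) : 1 < Nat.card (Q : Subgroup G) :=
  lt_of_lt_of_le (Fact.out : q.Prime).one_lt (Nat.le_of_dvd Nat.card_pos (Q.dvd_card_of_dvd_card hq))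

theorem nP_ne_top (hq : q ∣ Nat.card G) : nP Q ≠ ⊤ := by
  haveI := T.simple
  intro h
  haveI : (Q : Subgroup G).Normal := normalizer_eq_top_iff.1 h
  rcases (inferInstance : (Q : Subgroup G).Normal).eq_bot_or_eq_top with e | e
  · exact Q.ne_bot_of_dvd_card hq e
  · refine T.noncomm ⟨⟨fun x y => ?_⟩⟩
    exact congrArg Subtype.val (T.ab.is_comm.comm ⟨x, e ▸ mem_top x⟩ ⟨y, e ▸ mem_top y⟩)

/-- An involution centralising the Sylow subgroup needs four times its order in points. -/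
theorem four_mul_card_lt (hq : q ∣ Nat.card G) {t : G} (ht : orderOf t = 2) (htC : t ∈ cP Q) :
    4 * Nat.card (Q : Subgroup G) < (nP Q).index := by
  classical
  haveI := T.simple
  have hne := T.nP_ne_top hq
  have h4 := CfsgLib.Small.four_dvd_index_sub_fixedBy T.noncomm hne ht
  have hlt := CfsgLib.Small.card_fixedBy_lt_index hne
    (t := t) (fun e => by rw [e, orderOf_one] at ht; omega)
  have hfix : ((1 : G) : G ⧸ nP Q) ∈ MulAction.fixedBy (G ⧸ nP Q) t := by
    show ((t * 1 : G) : G ⧸ nP Q) = _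
    rw [QuotientGroup.eq]
    simpa using inv_mem (T.cP_le_nP htC)
  have hd := card_dvd_ncard_of_free (H := (Q : Subgroup G))
    ((MulAction.fixedBy (G ⧸ nP Q) t)ᶜ) (fun c a ha hca => ha ?_)
    fun c a ha hc => T.eq_one_of_fix (fun e => ha (by rw [e]; exact hfix)) hc
  · rw [Set.ncard_compl, ← index_eq_card, ← Nat.card_coe_set_eq] at hd
    have hpos : 0 < Nat.card (MulAction.fixedBy (G ⧸ nP Q) t) :=
      Nat.card_pos_iff.2 ⟨⟨⟨_, hfix⟩⟩, inferInstance⟩
    have hcop : Nat.Coprime 4 (Nat.card (Q : Subgroup G)) := by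
      rw [show 4 = 2 ^ 2 by norm_num]
      exact Nat.Coprime.pow_left 2 (Nat.coprime_two_left.2 T.odd_card)
    have := Nat.le_of_dvd (by omega) (hcop.mul_dvd_of_dvd_of_dvd h4 hd)
    omega
  · rw [MulAction.mem_fixedBy] at hca ⊢
    change t • ((c : G) • a) = (c : G) • a at hca
    rw [smul_smul, (mem_centralizer_iff.1 htC c c.2).symm, ← smul_smul] at hca
    exact MulAction.injective (c : G) hca

end TICtx

section Even

variable [Fintype G] {p q : ℕ} [Fact p.Prime] [Fact q.Prime]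

theorem coprime_card_of_primes {a b : ℕ} [Fact a.Prime] [Fact b.Prime] (hab : a ≠ b)
    (A : Sylow a G) (B : Sylow b G) :
    Nat.Coprime (Nat.card (A : Subgroup G)) (Nat.card (B : Subgroup G)) := by
  obtain ⟨i, hi⟩ := IsPGroup.iff_card.1 A.2
  obtain ⟨j, hj⟩ := IsPGroup.iff_card.1 B.2
  rw [hi, hj]
  exact Nat.Coprime.pow i j ((Nat.coprime_primes Fact.out Fact.out).2 hab)

/-- Orders seen from the first prime. -/
theorem Setup.ends_numbers (E : Setup G p q 2) {P : Sylow p G} (T : TICtx P) (Q : Sylow q G)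
    (hQab : IsMulCommutative (Q : Subgroup G)) (S : Sylow 2 G) {m : ℕ}
    (hm : Nat.card (S : Subgroup G) = 2 ^ m) :
    ∃ a v : ℕ, (Nat.card (Q : Subgroup G) = 2 ^ a + 1 ∨ Nat.card (Q : Subgroup G) + 1 = 2 ^ a) ∧
      resOrder P = 2 ^ v ∧ v < m ∧ m ≤ v + a := by
  classical
  haveI := E.simple
  haveI : Fact (Nat.Prime 2) := ⟨Nat.prime_two⟩
  obtain ⟨z, hzS, hzc, hz1⟩ := E.exists_central S
  have hCz := E.centralizer_central P T.ab Q hQab S hzS hzc hz1
  -- an involution in the centre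
  obtain ⟨k, hk⟩ := IsPGroup.iff_orderOf.1 S.2 ⟨z, hzS⟩
  rw [orderOf_mk] at hk
  have hk0 : k ≠ 0 := fun e => hz1 (orderOf_eq_one_iff.1 (by rw [hk, e, pow_zero]))
  set w := z ^ (orderOf z / 2)
  have hw : orderOf w = 2 := orderOf_pow_orderOf_div (orderOf_pos z).ne' (hk ▸ dvd_pow_self 2 hk0)
  have hw1 : w ≠ 1 := fun e => by rw [e, orderOf_one] at hw; omega
  have hCw := E.centralizer_central P T.ab Q hQab S (pow_mem hzS _) (pow_mem hzc _) hw1
  -- the residual part is a power of two, smaller than the Sylow subgroup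
  obtain ⟨x, hxP, hx1⟩ := (Subgroup.bot_or_exists_ne_one (P : Subgroup G)).resolve_left
    (P.ne_bot_of_dvd_card E.dvd)
  have hxp : ∃ i, orderOf x = p ^ i := by
    obtain ⟨i, hi⟩ := IsPGroup.iff_orderOf.1 P.2 ⟨x, hxP⟩
    exact ⟨i, by rwa [orderOf_mk] at hi⟩
  have hVdvd : resOrder P ∣ Nat.card (cP P) := by rw [T.card_cP]; exact dvd_mul_left _ _
  obtain ⟨v, hv⟩ : ∃ v, resOrder P = 2 ^ v := by
    refine ⟨_, Nat.eq_prime_pow_of_unique_prime_dvd T.resOrder_pos.ne' fun {d} hd hdd => ?_⟩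
    haveI := Fact.mk hd
    rcases E.dvd_cases hd ((hdd.trans hVdvd).trans (card_subgroup_dvd_card _)) with rfl | rfl | rfl
    · exact absurd hdd (fun h => T.sylC.not_dvd_index h)
    · exfalso
      obtain ⟨y, hy⟩ := exists_prime_orderOf_dvd_card' (G := cP P) d (hdd.trans hVdvd)
      rw [← orderOf_coe] at hy
      refine E.no_mixed P T.ab Q hQab hxp ⟨1, by rw [hy, pow_one]⟩ hx1 (fun e => by
        rw [e, orderOf_one] at hy; exact hd.ne_one hy.symm) ?_
      exact mem_centralizer_iff.1 y.2 x hxP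
    · rfl
  have hcop : Nat.Coprime (resOrder P) (Nat.card (P : Subgroup G) * Nat.card (Q : Subgroup G)) := by
    rw [hv]
    obtain ⟨i, hi⟩ := IsPGroup.iff_card.1 P.2
    obtain ⟨j, hj⟩ := IsPGroup.iff_card.1 Q.2
    rw [hi, hj]
    exact Nat.Coprime.mul_right (Nat.Coprime.pow v i ((Nat.coprime_primes Nat.prime_two E.hp).2
      E.hps.symm)) (Nat.Coprime.pow v j ((Nat.coprime_primes Nat.prime_two E.hq).2 E.hqs.symm))
  have hG := E.card_eq P T.ab Q hQab S
  have hvm : v < m := by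
    have hd : resOrder P ∣ Nat.card (S : Subgroup G) :=
      hcop.dvd_of_dvd_mul_left (hG ▸ hVdvd.trans (card_subgroup_dvd_card _))
    rw [hv, hm] at hd
    refine lt_of_le_of_ne ((Nat.pow_dvd_pow_iff_le_right (by norm_num)).1 hd) fun hvm => ?_
    obtain ⟨K, hKle, hK⟩ := CfsgLib.Small.exists_two_subgroup_le (H := cP P) (k := m)
      (by rw [← hvm, ← hv]; exact hVdvd)
    let S' : Sylow 2 G := Sylow.ofCard K (by rw [hK, ← hm]; exact S.card_eq_multiplicity)
    have hxS' : x ∈ centralizer ((S' : Subgroup G) : Set G) := mem_centralizer_iff.2 fun y hy =>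
      (mem_centralizer_iff.1 (hKle hy) x hxP).symm
    exact E.rot.rot.not_cent_two hx1 ⟨S', hxS'⟩ (cent_of_pElement T.ab hxp)
  -- the exceptional pair
  obtain ⟨f, hf⟩ : ∃ f : (P : Subgroup G) →* ℂˣ, f ≠ 1 := by
    letI : CommGroup (P : Subgroup G) :=
      { (inferInstance : Group (P : Subgroup G)) with mul_comm := T.ab.is_comm.comm }
    obtain ⟨f, hf⟩ := CommGroup.exists_apply_ne_one_of_hasEnoughRootsOfUnity
      (G := (P : Subgroup G)) (M := ℂ) (a := ⟨x, hxP⟩) (fun e => hx1 (congrArg Subtype.val e))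
    exact ⟨f, fun e => hf (by rw [e]; rfl)⟩
  obtain ⟨a, b, n, hab, ha1, hb1, heq, hn, hna, hnb⟩ := T.exists_ends hf
  have hpn : ¬ p ∣ n := T.not_dvd_degree hf hab heq ha1 hb1 a (Or.inl rfl) hna
  have hpn1 : ¬ p ∣ n + 1 := T.not_dvd_degree hf hab heq ha1 hb1 b (Or.inr rfl) hnb
  have hprimes : ∀ {d : ℕ}, d ∣ Nat.card G → ¬ p ∣ d → ∀ {t : ℕ}, t.Prime → t ∣ d →
      t = q ∨ t = 2 := by
    intro d hdg hpd t ht htd
    exact (E.dvd_cases ht (htd.trans hdg)).resolve_left fun e => hpd (e ▸ htd)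
  have hdn := degree_dvd_card a hna
  have hdn1 := degree_dvd_card b hnb
  -- the two shapes
  have hodd : ∀ (χ : Cfsg.IrrCharacter G) (O : ℕ), (χ : G → ℂ) 1 = O → 1 < O → ¬ 2 ∣ O → ¬ p ∣ O →
      O ∣ Nat.card G → O = Nat.card (Q : Subgroup G) := by
    intro χ O hχ hO1 hO2 hOp hOg
    have hOq : O = q ^ O.primeFactorsList.length :=
      Nat.eq_prime_pow_of_unique_prime_dvd (by omega) fun {t} ht htd =>
        (hprimes hOg hOp ht htd).resolve_right fun e => hO2 (e ▸ htd)
    refine Nat.dvd_antisymm ?_ (card_dvd_degree_of_vanish χ _ hχ fun y hy hy1 => ?_)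
    · refine Nat.Coprime.dvd_of_dvd_mul_right ?_ (card_mul_index (Q : Subgroup G) ▸ hOg)
      rw [hOq]
      exact Nat.Coprime.pow_left _ (E.hq.coprime_iff_not_dvd.2 Q.not_dvd_index)
    · refine char_eq_zero_of_coprime E.noncomm χ hχ hO1 hy1 ?_
      rw [hOq]
      refine Nat.Coprime.pow_left _ (E.hq.coprime_iff_not_dvd.2 ?_)
      rw [← cent_iff]
      exact cent_of_mem hQab hy
  have heven : ∀ (χ : Cfsg.IrrCharacter G) (D O : ℕ), (χ : G → ℂ) 1 = D → 1 < D → ¬ p ∣ D →
      D ∣ Nat.card G → O = Nat.card (Q : Subgroup G) → (O = D + 1 ∨ O + 1 = D) →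
      ∃ e, D = 2 ^ e ∧ (χ : G → ℂ) w = 0 := by
    intro χ D O hχ hD1 hDp hDg hO hadj
    have hD : D = 2 ^ D.primeFactorsList.length := by
      refine Nat.eq_prime_pow_of_unique_prime_dvd (by omega) fun {t} ht htd => ?_
      refine (hprimes hDg hDp ht htd).resolve_left fun e => ?_
      subst e
      have hqO : t ∣ O := hO ▸ Q.dvd_card_of_dvd_card E.swap.dvd
      have : t ∣ 1 := by
        rcases hadj with h | h
        · exact (Nat.dvd_add_right htd).1 (h ▸ hqO)
        · exact (Nat.dvd_add_right hqO).1 (h ▸ htd)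
      exact ht.not_dvd_one this
    refine ⟨_, hD, char_eq_zero_of_coprime E.noncomm χ hχ hD1 hw1 ?_⟩
    rw [hD, cidx, hCw]
    exact Nat.Coprime.pow_left _ (Nat.prime_two.coprime_iff_not_dvd.2 S.not_dvd_index)
  obtain ⟨hval, k', hpair⟩ := T.pairs_equation hf hab ha1 hb1 heq hw
  rw [hCw] at hpair
  have hQ0 : Nat.card (Q : Subgroup G) ≠ 0 := Nat.card_pos.ne'
  have hshape : ∃ e : ℕ,
      (Nat.card (Q : Subgroup G) = 2 ^ e + 1 ∨ Nat.card (Q : Subgroup G) + 1 = 2 ^ e) ∧
      (Nat.card (S : Subgroup G) * k') ^ 2 * Nat.card (Q : Subgroup G) =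
        Nat.card G * Nat.card (cP P) * 2 ^ e := by
    rcases Nat.even_or_odd n with hev | hod
    · -- the larger end is odd
      have hO := hodd b (n + 1) hnb (by omega)
        (fun h => by rw [Nat.even_iff] at hev; omega) hpn1 hdn1
      obtain ⟨e, he, hz0⟩ := heven a n (n + 1) hna hn hpn hdn hO (Or.inl rfl)
      refine ⟨e, Or.inl (by rw [← hO, he]), ?_⟩
      rw [← hO, ← he]
      have hb' : (b : G → ℂ) w = 1 := by linear_combination -hval + hz0
      have hne : ((n + 1 : ℕ) : ℂ) ≠ 0 := Nat.cast_ne_zero.2 (by omega)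
      refine (Nat.cast_inj (R := ℂ)).1 ?_
      rw [hna, hnb, hz0, hb'] at hpair
      rw [Nat.cast_mul, Nat.cast_pow, hpair]
      push_cast at hne ⊢
      field_simp
      ring
    · have hO := hodd a n hna hn (fun h => by rw [Nat.odd_iff] at hod; omega) hpn hdn
      obtain ⟨e, he, hz0⟩ := heven b (n + 1) n hnb (by omega) hpn1 hdn1 hO (Or.inr rfl)
      refine ⟨e, Or.inr (by rw [← hO, he]), ?_⟩
      rw [← hO, ← he]
      have ha' : (a : G → ℂ) w = -1 := by linear_combination hval + hz0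
      have hne : ((n : ℕ) : ℂ) ≠ 0 := Nat.cast_ne_zero.2 (by omega)
      refine (Nat.cast_inj (R := ℂ)).1 ?_
      rw [hna, hnb, hz0, ha'] at hpair
      rw [Nat.cast_mul, Nat.cast_pow, hpair]
      push_cast
      field_simp
      ring
  obtain ⟨e, hQe, heq'⟩ := hshape
  refine ⟨e, v, hQe, hv, hvm, ?_⟩
  rw [hG, T.card_cP, hv, hm] at heq'
  have h2 : 2 ^ m * k' ^ 2 = Nat.card (P : Subgroup G) ^ 2 * 2 ^ (v + e) := by
    refine Nat.eq_of_mul_eq_mul_left
      (show 0 < 2 ^ m * Nat.card (Q : Subgroup G) from Nat.mul_pos (by positivity) Nat.card_pos) ?_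
    calc 2 ^ m * Nat.card (Q : Subgroup G) * (2 ^ m * k' ^ 2)
        = (2 ^ m * k') ^ 2 * Nat.card (Q : Subgroup G) := by ring
      _ = _ := heq'
      _ = _ := by rw [pow_add]; ring
  have h3 : 2 ^ m ∣ 2 ^ (v + e) :=
    Nat.Coprime.dvd_of_dvd_mul_left
      (Nat.Coprime.pow m 2 (Nat.coprime_two_left.2 T.odd_card)) ⟨k' ^ 2, h2.symm⟩
  exact (Nat.pow_dvd_pow_iff_le_right (by norm_num)).1 h3

/-- The endgame, with the smaller Sylow subgroup first. -/
theorem Setup.false_of_lt (E : Setup G p q 2) {P : Sylow p G} (TP : TICtx P) {Q : Sylow q G}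
    (TQ : TICtx Q) (S : Sylow 2 G) (hS : ¬ IsMulCommutative (S : Subgroup G))
    (hlt : Nat.card (P : Subgroup G) < Nat.card (Q : Subgroup G)) : False := by
  classical
  haveI := E.simple
  haveI : Fact (Nat.Prime 2) := ⟨Nat.prime_two⟩
  obtain ⟨m, hm⟩ := IsPGroup.iff_card.1 S.2
  obtain ⟨a, v, hQa, -, hv1, hv2⟩ := E.ends_numbers TP Q TQ.ab S hm
  obtain ⟨c, w, hPc, hW, hw1, hw2⟩ := E.swap.ends_numbers TQ P TP.ab S hm
  obtain ⟨i, hi⟩ := IsPGroup.iff_card.1 P.2
  obtain ⟨j, hj⟩ := IsPGroup.iff_card.1 Q.2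
  have hG := E.card_eq P TP.ab Q TQ.ab S
  have hn : (nP Q).index = 2 ^ (m - w - 1) * Nat.card (P : Subgroup G) := by
    have h := autoOrder_mul Q
    rw [Q.card_eq_index_normalizer, TQ.auto] at h
    change (nP Q).index * Nat.card (cP Q) * 2 = _ at h
    rw [TQ.card_cP, hW, hG, hm] at h
    have e : 2 ^ m = 2 ^ (m - w - 1) * 2 ^ w * 2 := by
      rw [← pow_add, ← pow_succ]; congr 1; omega
    rw [e] at h
    refine Nat.eq_of_mul_eq_mul_right
      (show 0 < Nat.card (Q : Subgroup G) * 2 ^ w * 2 by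
        have := Nat.card_pos (α := (Q : Subgroup G)); positivity) ?_
    linear_combination h
  have hdvd : Nat.card (Q : Subgroup G) ∣ 2 ^ (m - w - 1) * Nat.card (P : Subgroup G) - 1 :=
    hn ▸ TQ.card_dvd_index_sub_one
  have hP1 := TP.one_lt_card E.dvd
  have hcases := congruence_cases (A := m - v - 1) (c := c) (a := a) E.hp E.hq hi hj hPc hQa hlt
    hP1 (by omega) (by omega) hdvd
  have hw0 : w = 0 := by
    by_contra hw0
    obtain ⟨t, ht⟩ := exists_prime_orderOf_dvd_card' (G := cP Q) 2 (by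
      rw [TQ.card_cP, hW]
      exact Dvd.dvd.mul_left (dvd_pow_self 2 hw0) _)
    rw [← orderOf_coe] at ht
    have := TQ.four_mul_card_lt E.swap.dvd ht t.2
    rw [hn] at this
    rcases hcases with h | h | h | h <;> obtain ⟨h1, h2, h3⟩ := h <;>
      rw [h1, h2, h3] at this <;> norm_num at this
  subst hw0
  have hm4 : ∀ C, m - 0 - 1 = C → Nat.card (S : Subgroup G) = 2 ^ (C + 1) := fun C hC => by
    rw [hm]; congr 1; omega
  rcases hcases with h | h | h | h <;> obtain ⟨h1, h2, h3⟩ := h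
  · exact hS (IsPGroup.isMulCommutative_of_card_eq_prime_sq (by rw [hm4 _ h3]))
  · -- order 504
    have hN : Nat.card G = 504 := by rw [hG, h1, h2, hm4 _ h3]; norm_num
    letI : Fintype (GaloisField 2 3) := Fintype.ofFinite _
    have hF : Fintype.card (GaloisField 2 3) = 2 ^ 3 := by
      rw [← Nat.card_eq_fintype_card]; exact GaloisField.card 2 3 (by norm_num)
    have hCA : CfsgLib.CAGroups.CommTransitive G :=
      (CfsgLib.CAGroups.iff_psl2 E.noncomm).2 ⟨GaloisField 2 3, inferInstance, inferInstance, 3,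
        by norm_num, hF, Cfsg.Agent.S1011.result hN (by rw [hF]; norm_num)⟩
    obtain ⟨z, hzS, hzc, hz1⟩ := E.exists_central S
    have hc := hCA.centralizer_commutative hz1
    rw [E.centralizer_central P TP.ab Q TQ.ab S hzS hzc hz1] at hc
    exact hS hc
  · exact hS (IsPGroup.isMulCommutative_of_card_eq_prime_sq (by rw [hm4 _ h3]))
  · exact hS (IsPGroup.isMulCommutative_of_card_eq_prime_sq (by rw [hm4 _ h3]))

end Even

end CfsgLib.TwoPrimeClasses
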