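import Cfsg.Agent.TwoPrimeClasses.Projection
import Cfsg.Agent.Characters.Exceptional
import Cfsg.Agent.Characters.Linear
import Cfsg.Agent.ClassPairs.Basic
import Cfsg.Agent.Small.DegreeInvolution
import Cfsg.Agent.S4314

/-!
# The exceptional characters of a Sylow subgroup with automiser of order two

For each non-trivial linear character `f` of the Sylow subgroup the function induced from
`1 - f ∘ proj` has norm 3; so it is `1 + a - b` with `b 1 = a 1 + 1`.  The degrees are prime to
`p`, and the values at an involution satisfy the equation of pairs.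
-/

set_option autoImplicit false
set_option linter.unusedSectionVars false
set_option linter.style.haveILetI false

namespace CfsgLib.TwoPrimeClasses

open Subgroup CfsgLib.Characters
open scoped ComplexConjugate

universe u

theorem int_dvd_of_isIntegral {z : ℤ} {b : ℕ} (hb : b ≠ 0) (h : IsIntegral ℤ ((z : ℂ) / b)) :
    (b : ℤ) ∣ z := by
  rcases Int.natAbs_eq z with e | e <;> rw [e] at h ⊢
  · exact Int.natCast_dvd_natCast.2 (dvd_of_isIntegral_div hb (by simpa using h))
  · refine (dvd_neg).2 (Int.natCast_dvd_natCast.2 (dvd_of_isIntegral_div hb ?_))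
    have := h.neg
    rw [Int.cast_neg, neg_div, neg_neg, Int.cast_natCast] at this
    exact this

variable {G : Type u} [Group G] [Fintype G]

theorem isIntegral_char_div {p : ℕ} [Fact p.Prime] (χ : Cfsg.IrrCharacter G) {n : ℕ}
    (hn : (χ : G → ℂ) 1 = n) (hpn : p ∣ n) (g : G) (hg : ¬ p ∣ cidx g) :
    IsIntegral ℤ ((χ : G → ℂ) g / p) := by
  obtain ⟨k, ρ, hρ, hχ⟩ := χ.2
  haveI := hρ
  have hdim : Module.finrank ℂ (Fin k → ℂ) = n := by
    have h := hn
    rw [← hχ, Representation.char_one] at h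
    exact_mod_cast h
  have h1 := isIntegral_index_mul_char_div ρ g
  rw [hdim, hχ] at h1
  obtain ⟨m, rfl⟩ := hpn
  obtain ⟨a, b, hab⟩ := (Nat.isCoprime_iff_coprime.2
    ((Fact.out : p.Prime).coprime_iff_not_dvd.2 hg) : IsCoprime (p : ℤ) (cidx g : ℤ))
  have hab' : (a : ℂ) * p + b * cidx g = 1 := by exact_mod_cast hab
  have hn0 : ((p * m : ℕ) : ℂ) ≠ 0 := by
    intro h0
    rw [h0] at hn
    exact irr_one_ne_zero χ.2 hn
  have hp0 : (p : ℂ) ≠ 0 := Nat.cast_ne_zero.2 (Fact.out : p.Prime).ne_zero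
  have e : (χ : G → ℂ) g / p = (a : ℂ) * (χ : G → ℂ) g +
      (b : ℂ) * ((m : ℂ) * ((cidx g : ℂ) * (χ : G → ℂ) g / ((p * m : ℕ) : ℂ))) := by
    push_cast at hn0 ⊢
    have hm0 : (m : ℂ) ≠ 0 := right_ne_zero_of_mul hn0
    field_simp
    linear_combination -((χ : G → ℂ) g) * hab'
  rw [e]
  exact ((isIntegral_algebraMap (x := a)).mul (character_isIntegral (isCharacter_of_isIrr χ.2) g)).add
    ((isIntegral_algebraMap (x := b)).mul
      ((isIntegral_algebraMap (x := (m : ℤ))).mul h1))

theorem invol_conj {H : Type*} [Group H] {a b : H} (ha : a * a = 1) (hb : b * b = 1) :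
    a⁻¹ * (a * b) * a = (a * b)⁻¹ := by
  rw [mul_inv_rev, inv_eq_of_mul_eq_one_right ha, inv_eq_of_mul_eq_one_right hb, ← mul_assoc, ha,
    one_mul]

theorem invol_cancel {H : Type*} [Group H] {a : H} (c : H) (ha : a * a = 1) (b : H) :
    a * b = (c * a)⁻¹ * (c * b) := by
  rw [show (c * a)⁻¹ * (c * b) = a⁻¹ * b by group, inv_eq_of_mul_eq_one_right ha]

/-- The principal character. -/
def oneChar (G : Type u) [Group G] : Cfsg.IrrCharacter G := ⟨fun _ => 1, isIrr_one⟩

theorem oneChar_apply (g : G) : (oneChar G : G → ℂ) g = 1 := rfl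

theorem eq_oneChar_of_degree_one [IsSimpleGroup G] (hG : ¬ IsMulCommutative G)
    (χ : Cfsg.IrrCharacter G) (h1 : (χ : G → ℂ) 1 = 1) : χ = oneChar G := by
  obtain ⟨f, hf⟩ := exists_hom_of_degree_one (isCharacter_of_isIrr χ.2) h1
  have hker : commutator G ≤ f.ker := Abelianization.commutator_subset_ker f
  rw [commutator_eq_top hG] at hker
  refine Subtype.ext (hf.trans (funext fun g => ?_))
  rw [show f g = 1 from hker (mem_top g)]
  rfl

/-- A generalized character of norm two with value `-1` at the identity. -/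
theorem gen_norm_two_neg {β : G → ℂ} (h : Cfsg.IsGeneralizedCharacter G β)
    (h2 : Cfsg.classInner β β = 2) (h1 : β 1 = -1) :
    ∃ (a b : Cfsg.IrrCharacter G) (n : ℕ), a ≠ b ∧ β = (a : G → ℂ) - (b : G → ℂ) ∧ 0 < n ∧
      (a : G → ℂ) 1 = n ∧ (b : G → ℂ) 1 = (n + 1 : ℕ) := by
  classical
  obtain ⟨m, hm, hmi⟩ := exists_int_coeff h
  have hsq : ∑ χ, m χ ^ 2 = 2 := by
    have := (classInner_self_eq_sum_sq (isClassFunction_of_isGen h) m hmi).symm.trans h2
    exact_mod_cast this
  have hle : ∀ χ, m χ ≠ 0 → m χ ^ 2 = 1 := by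
    intro χ hχ
    have hb : m χ ^ 2 ≤ 2 := hsq ▸ Finset.single_le_sum (f := fun χ => m χ ^ 2)
      (fun _ _ => sq_nonneg _) (Finset.mem_univ χ)
    have hlo : -1 ≤ m χ := by nlinarith
    have hhi : m χ ≤ 1 := by nlinarith
    have : m χ = -1 ∨ m χ = 1 := by omega
    rcases this with e | e <;> rw [e] <;> norm_num
  set s : Finset (Cfsg.IrrCharacter G) := Finset.univ.filter fun χ => m χ ≠ 0 with hs
  have hcard : s.card = 2 := by
    have : ∑ χ ∈ s, m χ ^ 2 = 2 := by
      rw [← hsq]
      exact Finset.sum_subset (Finset.subset_univ s) fun χ _ hχ => by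
        have : m χ = 0 := by simpa [s] using hχ
        simp [this]
    rw [Finset.sum_congr rfl (fun χ hχ => hle χ (by simpa [s] using hχ))] at this
    exact_mod_cast (by simpa using this : ((s.card : ℤ) = 2))
  obtain ⟨a, b, hab, hsab⟩ := Finset.card_eq_two.1 hcard
  have hθ : β = (m a : ℂ) • (a : G → ℂ) + (m b : ℂ) • (b : G → ℂ) := by
    rw [hm, ← Finset.sum_subset (Finset.subset_univ s) fun χ _ hχ => ?_, hsab, Finset.sum_pair hab]
    have : m χ = 0 := by simpa [s] using hχ
    simp [this]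
  have ha : m a ≠ 0 := by
    have : a ∈ s := by simp [hsab]
    simpa [s] using this
  have hb : m b ≠ 0 := by
    have : b ∈ s := by simp [hsab]
    simpa [s] using this
  obtain ⟨da, hda, ea⟩ := exists_degree_pos a.2
  obtain ⟨db, hdb, eb⟩ := exists_degree_pos b.2
  have hdeg : (m a * da + m b * db : ℤ) = -1 := by
    have := congrFun hθ 1
    rw [h1] at this
    simp [ea, eb] at this
    exact_mod_cast this.symm
  have hda' : (0 : ℤ) < da := by exact_mod_cast hda
  have hdb' : (0 : ℤ) < db := by exact_mod_cast hdb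
  rcases sq_eq_one_iff.1 (hle a ha) with ea' | ea' <;>
    rcases sq_eq_one_iff.1 (hle b hb) with eb' | eb' <;> rw [ea', eb'] at hdeg hθ
  · omega
  · refine ⟨a, b, da, hab, by rw [hθ]; simp [sub_eq_add_neg], hda, ea, ?_⟩
    rw [eb, show db = da + 1 by omega]
  · refine ⟨b, a, db, hab.symm, by rw [hθ]; simp [sub_eq_add_neg, add_comm], hdb, eb, ?_⟩
    rw [ea, show da = db + 1 by omega]
  · omega

theorem ends_unique {a b c d : Cfsg.IrrCharacter G} (hab : a ≠ b)
    (h : (a : G → ℂ) - (b : G → ℂ) = (c : G → ℂ) - (d : G → ℂ)) : a = c ∧ b = d := by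
  classical
  have key : ∀ χ : Cfsg.IrrCharacter G, ((if a = χ then (1 : ℂ) else 0) - if b = χ then 1 else 0) =
      (if c = χ then (1 : ℂ) else 0) - if d = χ then 1 else 0 := fun χ => by
    have := congrArg (fun f : G → ℂ => Cfsg.classInner f (χ : G → ℂ)) h
    simpa only [classInner_sub_left, classInner_irr] using this
  constructor
  · have := key a
    rw [if_pos rfl, if_neg (Ne.symm hab)] at this
    by_contra hne
    rw [if_neg (Ne.symm hne)] at this
    split_ifs at this <;> norm_num at this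
  · have := key b
    rw [if_pos rfl, if_neg hab] at this
    by_contra hne
    rw [if_neg (Ne.symm hne)] at this
    split_ifs at this <;> norm_num at this

variable {p : ℕ} [Fact p.Prime] {P : Sylow p G}

namespace TICtx

variable (T : TICtx P)
include T

/-- The linear character of the centraliser given by a character of the Sylow subgroup. -/
noncomputable def linHom (f : (P : Subgroup G) →* ℂˣ) : cP P →* ℂˣ := f.comp T.proj

/-- The values of `linHom`. -/
noncomputable def lin (f : (P : Subgroup G) →* ℂˣ) (y : cP P) : ℂ := (f (T.proj y) : ℂ)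

/-- The function to be induced. -/
noncomputable def theta (f : (P : Subgroup G) →* ℂˣ) : cP P → ℂ := fun y => 1 - T.lin f y

/-- The induced function. -/
noncomputable def alpha (f : (P : Subgroup G) →* ℂˣ) : G → ℂ := Cfsg.indFun (cP P) (T.theta f)

theorem isGen_theta (f : (P : Subgroup G) →* ℂˣ) :
    Cfsg.IsGeneralizedCharacter (cP P) (T.theta f) :=
  ⟨_, _, isCharacter_one, isCharacter_of_isIrr (isIrr_linChar (T.linHom f)), rfl⟩

theorem isGen_alpha (f : (P : Subgroup G) →* ℂˣ) : Cfsg.IsGeneralizedCharacter G (T.alpha f) :=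
  isGen_indFun _ (T.isGen_theta f)

theorem theta_of_proj {f : (P : Subgroup G) →* ℂˣ} {y : cP P} (h : T.proj y = 1) :
    T.theta f y = 0 := by
  simp [theta, lin, h]

theorem lin_inv (f : (P : Subgroup G) →* ℂˣ) (y : cP P) :
    T.lin f y⁻¹ = conj (T.lin f y) :=
  character_inv (isCharacter_of_isIrr (isIrr_linChar (T.linHom f))) y

theorem lin_inv_hom (f : (P : Subgroup G) →* ℂˣ) (y : cP P) :
    T.lin f⁻¹ y = T.lin f y⁻¹ := by
  simp [lin, map_inv]

theorem alpha_apply (f : (P : Subgroup G) →* ℂˣ) (y : cP P) :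
    T.alpha f y = 2 - T.lin f y - T.lin f y⁻¹ := by
  classical
  haveI := Fintype.ofFinite (cP P)
  have hterm : ∀ x : G, Cfsg.extendByZero (cP P) (T.theta f) (x⁻¹ * (y : G) * x) =
      if x ∈ cP P then T.theta f y else if x ∈ nP P then T.theta f y⁻¹ else 0 := by
    intro x
    split_ifs with hxC hxN
    · have hm := T.conj_mem (T.cP_le_nP (inv_mem hxC)) y
      have h2 := T.proj_conj_cP (inv_mem hxC) y
      rw [inv_inv] at hm
      simp only [inv_inv] at h2
      rw [extendByZero_of_mem _ _ hm]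
      simp only [theta, lin, h2]
    · have hxN' : x⁻¹ ∈ nP P := inv_mem hxN
      have hxC' : x⁻¹ ∉ cP P := fun h => hxC (by simpa using inv_mem h)
      have hm := T.conj_mem hxN' y
      have h2 := T.proj_conj hxN' hxC' y
      rw [inv_inv] at hm
      simp only [inv_inv] at h2
      rw [extendByZero_of_mem _ _ hm]
      simp only [theta, lin, h2, map_inv]
    · by_cases hm : x⁻¹ * (y : G) * x ∈ cP P
      · rw [extendByZero_of_mem _ _ hm]
        apply T.theta_of_proj
        by_contra hne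
        have hg : (x⁻¹)⁻¹ * ((⟨_, hm⟩ : cP P) : G) * x⁻¹ ∈ cP P := by
          rw [show (x⁻¹)⁻¹ * ((⟨_, hm⟩ : cP P) : G) * x⁻¹ = (y : G) by simp [mul_assoc]]
          exact y.2
        exact hxN (by simpa using inv_mem (T.mem_nP_of_conj ⟨_, hm⟩ hne hg))
      · exact extendByZero_of_not_mem _ _ hm
  have hsum : ∑ x : G, Cfsg.extendByZero (cP P) (T.theta f) (x⁻¹ * (y : G) * x) =
      (Nat.card (cP P) : ℂ) * T.theta f y + (Nat.card (cP P) : ℂ) * T.theta f y⁻¹ := by
    simp only [hterm]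
    rw [Finset.sum_ite]
    rw [Finset.sum_ite]
    simp only [Finset.sum_const, nsmul_eq_mul, Finset.sum_const_zero, add_zero, mul_zero,
      Finset.filter_filter]
    have e1 : (Finset.univ.filter fun x : G => x ∈ cP P).card = Nat.card (cP P) := by
      rw [Nat.card_eq_fintype_card, Fintype.card_subtype]
    have e2 : (Finset.univ.filter fun x : G => x ∉ cP P ∧ x ∈ nP P).card = Nat.card (cP P) := by
      haveI := Fintype.ofFinite (nP P)
      have h := Finset.card_filter_add_card_filter_not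
        (s := Finset.univ.filter fun x : G => x ∈ nP P) (fun x => x ∈ cP P)
      have h3 : (Finset.univ.filter fun x : G => x ∈ nP P).card = Nat.card (nP P) := by
        rw [Nat.card_eq_fintype_card, Fintype.card_subtype]
      rw [h3, Finset.filter_filter, Finset.filter_filter, T.card_nP,
        Finset.filter_congr (q := fun x : G => x ∈ cP P)
          (fun x _ => ⟨fun h => h.2, fun h => ⟨T.cP_le_nP h, h⟩⟩), e1,
        Finset.filter_congr (q := fun x : G => x ∉ cP P ∧ x ∈ nP P)
          (fun x _ => and_comm)] at h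
      omega
    rw [e1, e2]
  have hc : (Nat.card (cP P) : ℂ) ≠ 0 := subgroup_card_ne_zero _
  rw [alpha, Cfsg.indFun, hsum]
  simp only [theta]
  field_simp
  ring

theorem alpha_eq_zero (f : (P : Subgroup G) →* ℂˣ) (g : G)
    (h : ∀ (x : G) (hx : x⁻¹ * g * x ∈ cP P), T.proj ⟨_, hx⟩ = 1) : T.alpha f g = 0 := by
  rw [alpha, Cfsg.indFun, Finset.sum_eq_zero, mul_zero]
  intro x _
  by_cases hm : x⁻¹ * g * x ∈ cP P
  · rw [extendByZero_of_mem _ _ hm]
    exact T.theta_of_proj (h x hm)
  · exact extendByZero_of_not_mem _ _ hm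

theorem alpha_inv (f : (P : Subgroup G) →* ℂˣ) : T.alpha f⁻¹ = T.alpha f := by
  funext g
  by_cases h : ∀ (x : G) (hx : x⁻¹ * g * x ∈ cP P), T.proj ⟨_, hx⟩ = 1
  · rw [T.alpha_eq_zero _ _ h, T.alpha_eq_zero _ _ h]
  · push Not at h
    obtain ⟨x, hx, -⟩ := h
    have e1 := isClassFunction_indFun (cP P) (T.theta f) g x⁻¹
    have e2 := isClassFunction_indFun (cP P) (T.theta f⁻¹) g x⁻¹
    rw [inv_inv] at e1 e2
    show Cfsg.indFun (cP P) (T.theta f⁻¹) g = Cfsg.indFun (cP P) (T.theta f) g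
    rw [← e1, ← e2]
    show T.alpha f⁻¹ ((⟨_, hx⟩ : cP P) : G) = T.alpha f ((⟨_, hx⟩ : cP P) : G)
    rw [T.alpha_apply, T.alpha_apply, T.lin_inv_hom, T.lin_inv_hom, inv_inv]
    ring

theorem sum_lin [Fintype (cP P)] (f : (P : Subgroup G) →* ℂˣ) [Decidable (f = 1)] :
    ∑ y : cP P, T.lin f y = if f = 1 then (Nat.card (cP P) : ℂ) else 0 := by
  split_ifs with hf
  · subst hf
    simp [lin, Nat.card_eq_fintype_card]
  · refine sum_hom_units_eq_zero ((Units.coeHom ℂ).comp (T.linHom f)) fun h => hf ?_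
    refine MonoidHom.ext fun x => Units.ext ?_
    obtain ⟨w, hw⟩ := T.proj_bijective.2 x
    rw [← hw]
    exact DFunLike.congr_fun h _

theorem eq_one_of_eq_inv {f : (P : Subgroup G) →* ℂˣ} (h : f = f⁻¹) : f = 1 := by
  refine MonoidHom.ext fun x => ?_
  have h2 : f x ^ 2 = 1 := by
    rw [sq]
    nth_rw 2 [h]
    simp
  have h1 : f x ^ Nat.card (P : Subgroup G) = 1 := by rw [← map_pow, pow_card_eq_one', map_one]
  exact orderOf_eq_one_iff.1 (Nat.eq_one_of_dvd_coprimes
    ((Nat.coprime_two_right.2 T.odd_card)) (orderOf_dvd_of_pow_eq_one h1)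
    (orderOf_dvd_of_pow_eq_one h2))

theorem hom_inv_ne_one {f : (P : Subgroup G) →* ℂˣ} (hf : f ≠ 1) : f⁻¹ ≠ 1 := fun h =>
  hf (MonoidHom.ext fun x => inv_eq_one.1 (DFunLike.congr_fun h x))

theorem classInner_alpha {f μ : (P : Subgroup G) →* ℂˣ} (hf : f ≠ 1) (hμ : μ ≠ 1)
    [Decidable (f = μ)] [Decidable (f = μ⁻¹)] :
    Cfsg.classInner (T.alpha f) (T.alpha μ) =
      2 + (if f = μ then (1 : ℂ) else 0) + (if f = μ⁻¹ then (1 : ℂ) else 0) := by
  classical
  haveI := Fintype.ofFinite (cP P)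
  have hc : (Nat.card (cP P) : ℂ) ≠ 0 := subgroup_card_ne_zero _
  rw [show T.alpha f = Cfsg.indFun (cP P) (T.theta f) from rfl,
    classInner_indFun (cP P) (T.theta f) (χ := T.alpha μ) (isClassFunction_indFun _ _),
    Cfsg.classInner]
  have e : ∀ y : cP P, T.theta f y * conj (T.alpha μ (y : G)) =
      2 - T.lin μ y - T.lin μ⁻¹ y - 2 * T.lin f y + T.lin (f * μ⁻¹) y + T.lin (f * μ) y := by
    intro y
    rw [T.alpha_apply, map_sub, map_sub, map_ofNat, ← T.lin_inv, ← T.lin_inv, inv_inv,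
      ← T.lin_inv_hom]
    simp only [theta, lin, MonoidHom.mul_apply, Units.val_mul]
    ring
  simp only [e, Finset.sum_add_distrib, Finset.sum_sub_distrib, ← Finset.mul_sum, T.sum_lin,
    Finset.sum_const, Finset.card_univ, nsmul_eq_mul, ← Nat.card_eq_fintype_card]
  rw [if_neg hf, if_neg hμ, if_neg (T.hom_inv_ne_one hμ)]
  have i1 : (f * μ⁻¹ = 1) ↔ f = μ :=
    ⟨fun h => MonoidHom.ext fun x => mul_inv_eq_one.1 (DFunLike.congr_fun h x),
      fun h => MonoidHom.ext fun x => by rw [h]; simp⟩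
  have i2 : (f * μ = 1) ↔ f = μ⁻¹ :=
    ⟨fun h => MonoidHom.ext fun x => eq_inv_of_mul_eq_one_left (DFunLike.congr_fun h x),
      fun h => MonoidHom.ext fun x => by rw [h]; simp⟩
  simp only [i1, i2]
  split_ifs <;> field_simp <;> ring

theorem classInner_alpha_one {f : (P : Subgroup G) →* ℂˣ} (hf : f ≠ 1) :
    Cfsg.classInner (T.alpha f) (oneChar G : G → ℂ) = 1 := by
  classical
  haveI := Fintype.ofFinite (cP P)
  have hc : (Nat.card (cP P) : ℂ) ≠ 0 := subgroup_card_ne_zero _
  rw [show T.alpha f = Cfsg.indFun (cP P) (T.theta f) from rfl,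
    classInner_indFun (cP P) (T.theta f) (isClassFunction_of_isIrr (oneChar G).2),
    Cfsg.classInner]
  simp only [oneChar_apply, map_one, mul_one, theta, Finset.sum_sub_distrib, T.sum_lin, if_neg hf,
    Finset.sum_const, Finset.card_univ, nsmul_eq_mul, ← Nat.card_eq_fintype_card, sub_zero]
  exact inv_mul_cancel₀ hc

theorem exists_ends {f : (P : Subgroup G) →* ℂˣ} (hf : f ≠ 1) :
    ∃ (a b : Cfsg.IrrCharacter G) (n : ℕ), a ≠ b ∧ a ≠ oneChar G ∧ b ≠ oneChar G ∧
      T.alpha f - (oneChar G : G → ℂ) = (a : G → ℂ) - (b : G → ℂ) ∧ 1 < n ∧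
      (a : G → ℂ) 1 = n ∧ (b : G → ℂ) 1 = (n + 1 : ℕ) := by
  classical
  haveI := T.simple
  have h11 : Cfsg.classInner (oneChar G : G → ℂ) (oneChar G : G → ℂ) = 1 :=
    classInner_isIrr_self (oneChar G).2
  have h1 := T.classInner_alpha_one hf
  have h1' : Cfsg.classInner (oneChar G : G → ℂ) (T.alpha f) = 1 := by
    rw [classInner_conj_symm, h1, map_one]
  have hfi : f ≠ f⁻¹ := fun h => hf (T.eq_one_of_eq_inv h)
  obtain ⟨a, b, n, hab, hβ, hn, ha, hb⟩ := gen_norm_two_neg
    (isGen_sub (T.isGen_alpha f) (isGen_of_isIrr (oneChar G).2)) (by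
      rw [classInner_sub_left, classInner_sub_right, classInner_sub_right, h11, h1, h1',
        T.classInner_alpha hf hf, if_pos rfl, if_neg hfi]
      norm_num) (by
      rw [Pi.sub_apply, alpha, indFun_one, oneChar_apply]
      simp [theta, lin])
  have key := congrArg (fun F : G → ℂ => Cfsg.classInner F (oneChar G : G → ℂ)) hβ
  simp only [classInner_sub_left, h1, h11, classInner_irr, sub_self] at key
  have ha1 : a ≠ oneChar G := fun h => by
    rw [if_pos h, if_neg fun hb' => hab (h.trans hb'.symm)] at key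
    norm_num at key
  have hb1 : b ≠ oneChar G := fun h => by
    rw [if_pos h, if_neg fun ha' => hab (ha'.trans h.symm)] at key
    norm_num at key
  refine ⟨a, b, n, hab, ha1, hb1, hβ, ?_, ha, hb⟩
  rcases Nat.lt_or_ge 1 n with h | h
  · exact h
  · refine absurd (eq_oneChar_of_degree_one T.noncomm a ?_) ha1
    rw [ha, show n = 1 by omega, Nat.cast_one]

theorem classInner_alpha_irr {f : (P : Subgroup G) →* ℂˣ} {a b χ : Cfsg.IrrCharacter G}
    (h : T.alpha f - (oneChar G : G → ℂ) = (a : G → ℂ) - (b : G → ℂ))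
    [Decidable (oneChar G = χ)] [Decidable (a = χ)] [Decidable (b = χ)] :
    Cfsg.classInner (T.alpha f) (χ : G → ℂ) = (if oneChar G = χ then (1 : ℂ) else 0) +
      ((if a = χ then (1 : ℂ) else 0) - if b = χ then 1 else 0) := by
  have := congrArg (fun F : G → ℂ => Cfsg.classInner F (χ : G → ℂ)) h
  simp only [classInner_sub_left, classInner_irr] at this
  rw [← this]
  ring

theorem sum_theta_hom [Fintype ((P : Subgroup G) →* ℂˣ)] (y : cP P) [Decidable (T.proj y = 1)] :
    ∑ f : (P : Subgroup G) →* ℂˣ, T.theta f y =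
      if T.proj y = 1 then 0 else (Nat.card (P : Subgroup G) : ℂ) := by
  split_ifs with hy
  · exact Finset.sum_eq_zero fun f _ => T.theta_of_proj hy
  · letI : CommGroup (P : Subgroup G) :=
      { (inferInstance : Group (P : Subgroup G)) with mul_comm := T.ab.is_comm.comm }
    obtain ⟨f₀, hf₀⟩ := CommGroup.exists_apply_ne_one_of_hasEnoughRootsOfUnity
      (G := (P : Subgroup G)) (M := ℂ) hy
    have hzero : ∑ f : (P : Subgroup G) →* ℂˣ, T.lin f y = 0 := by
      have h := Fintype.sum_equiv (Equiv.mulLeft f₀) (fun f => T.lin (f₀ * f) y)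
        (fun f => T.lin f y) fun f => rfl
      simp only [lin, MonoidHom.mul_apply, Units.val_mul, ← Finset.mul_sum] at h
      have hne : ((f₀ (T.proj y) : ℂˣ) : ℂ) ≠ 1 := fun h => hf₀ (Units.ext h)
      have : (((f₀ (T.proj y) : ℂˣ) : ℂ) - 1) * ∑ f : (P : Subgroup G) →* ℂˣ, T.lin f y = 0 := by
        simp only [lin]
        linear_combination h
      exact (mul_eq_zero.1 this).resolve_left (sub_ne_zero.2 hne)
    have hcard : Fintype.card ((P : Subgroup G) →* ℂˣ) = Nat.card (P : Subgroup G) := by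
      rw [← Nat.card_eq_fintype_card]
      exact Nat.card_congr
        (CommGroup.monoidHom_mulEquiv_of_hasEnoughRootsOfUnity (P : Subgroup G) ℂ).some.toEquiv
    simp only [theta, Finset.sum_sub_distrib, hzero, sub_zero, Finset.sum_const, Finset.card_univ,
      hcard, nsmul_eq_mul, mul_one]

/-- The degrees of the exceptional pair are prime to `p`. -/
theorem not_dvd_degree {f₀ : (P : Subgroup G) →* ℂˣ} (hf₀ : f₀ ≠ 1) {a₀ b₀ : Cfsg.IrrCharacter G}
    (hab₀ : a₀ ≠ b₀) (h₀ : T.alpha f₀ - (oneChar G : G → ℂ) = (a₀ : G → ℂ) - (b₀ : G → ℂ))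
    (ha₀ : a₀ ≠ oneChar G) (hb₀ : b₀ ≠ oneChar G) (χ : Cfsg.IrrCharacter G)
    (hχ : χ = a₀ ∨ χ = b₀) {n : ℕ} (hn : (χ : G → ℂ) 1 = n) : ¬ p ∣ n := by
  classical
  intro hpn
  haveI := T.simple
  haveI := Fintype.ofFinite (cP P)
  letI : CommGroup (P : Subgroup G) :=
    { (inferInstance : Group (P : Subgroup G)) with mul_comm := T.ab.is_comm.comm }
  haveI : Finite ((P : Subgroup G) →* ℂˣ) := Finite.of_equiv _
    (CommGroup.monoidHom_mulEquiv_of_hasEnoughRootsOfUnity (P : Subgroup G) ℂ).some.symm.toEquiv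
  haveI := Fintype.ofFinite ((P : Subgroup G) →* ℂˣ)
  have hcardΛ : Fintype.card ((P : Subgroup G) →* ℂˣ) = Nat.card (P : Subgroup G) := by
    rw [← Nat.card_eq_fintype_card]
    exact Nat.card_congr
      (CommGroup.monoidHom_mulEquiv_of_hasEnoughRootsOfUnity (P : Subgroup G) ℂ).some.toEquiv
  have hχ1 : χ ≠ oneChar G := by rcases hχ with rfl | rfl <;> assumption
  haveI : Nonempty (Cfsg.IrrCharacter G) := ⟨oneChar G⟩
  choose! a b m hab ha hb heq _hm _hma _hmb using
    fun (f : (P : Subgroup G) →* ℂˣ) (hf : f ≠ 1) => T.exists_ends hf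
  have huniq : ∀ f, f ≠ 1 → ∀ g, g ≠ 1 → T.alpha f = T.alpha g → a f = a g ∧ b f = b g :=
    fun f hf g hg e => ends_unique (hab f hf) (by rw [← heq f hf, ← heq g hg, e])
  have ha0 : a f₀ = a₀ ∧ b f₀ = b₀ :=
    ends_unique (hab f₀ hf₀) (by rw [← heq f₀ hf₀, h₀])
  have hsh : ∀ f, f ≠ 1 → ∀ g, g ≠ 1 → f ≠ g → f ≠ g⁻¹ →
      (a f = a g ∧ b f ≠ b g) ∨ (a f ≠ a g ∧ b f = b g) := by
    intro f hf g hg h1 h2
    refine share_end (hab f hf) (hab g hg) ?_
    have hg' : Cfsg.classInner (oneChar G : G → ℂ) (T.alpha g) = 1 := by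
      rw [classInner_conj_symm, T.classInner_alpha_one hg, map_one]
    rw [← heq f hf, ← heq g hg, classInner_sub_left, classInner_sub_right, classInner_sub_right,
      T.classInner_alpha hf hg, if_neg h1, if_neg h2, T.classInner_alpha_one hf, hg',
      classInner_isIrr_self (oneChar G).2]
    norm_num
  -- one of the two ends is common to all
  have hall : (∀ f, f ≠ 1 → a f = a₀) ∨ (∀ f, f ≠ 1 → b f = b₀) := by
    by_contra hcon
    push Not at hcon
    obtain ⟨⟨i, hi, hia⟩, ⟨j, hj, hjb⟩⟩ := hcon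
    have hsame : ∀ f, f ≠ 1 → (f = f₀ ∨ f = f₀⁻¹) → a f = a₀ ∧ b f = b₀ := by
      rintro f hf (rfl | rfl)
      · exact ha0
      · have := huniq _ hf f₀ hf₀ (T.alpha_inv f₀)
        exact ⟨this.1.trans ha0.1, this.2.trans ha0.2⟩
    have hi0 : i ≠ f₀ ∧ i ≠ f₀⁻¹ := ⟨fun e => hia (hsame i hi (Or.inl e)).1,
      fun e => hia (hsame i hi (Or.inr e)).1⟩
    have hj0 : j ≠ f₀ ∧ j ≠ f₀⁻¹ := ⟨fun e => hjb (hsame j hj (Or.inl e)).2,
      fun e => hjb (hsame j hj (Or.inr e)).2⟩
    have h1 := (hsh i hi f₀ hf₀ hi0.1 hi0.2).resolve_left fun h => hia (h.1.trans ha0.1)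
    have h2 := (hsh j hj f₀ hf₀ hj0.1 hj0.2).resolve_right fun h => hjb (h.2.trans ha0.2)
    have hij : i ≠ j := fun e => h1.1 (e ▸ h2.1)
    have hij' : i ≠ j⁻¹ := fun e => by
      have hinv := huniq i hi j hj (by rw [e, T.alpha_inv])
      exact h1.1 (hinv.1.trans h2.1)
    rcases hsh i hi j hj hij hij' with h | h
    · exact h1.1 (h.1.trans h2.1)
    · exact h2.2 (h.2.symm.trans h1.2)
  -- the sum of the coefficients
  set c : ((P : Subgroup G) →* ℂˣ) → ℂ := fun f => Cfsg.classInner (T.alpha f) (χ : G → ℂ)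
  have hc1 : c 1 = 0 := by
    have : T.alpha (1 : (P : Subgroup G) →* ℂˣ) = 0 := by
      have hθ : T.theta (1 : (P : Subgroup G) →* ℂˣ) = 0 := by funext y; simp [theta, lin]
      rw [alpha, hθ, indFun_zero]
    simp [c, this, classInner_zero_left]
  have hcf : ∀ f, f ≠ 1 → c f = (if a f = χ then (1 : ℂ) else 0) - if b f = χ then 1 else 0 := by
    intro f hf
    simp only [c]
    rw [T.classInner_alpha_irr (heq f hf), if_neg (Ne.symm hχ1), zero_add]
  -- the coefficient sum is `±2` or `±(|P| - 1)`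
  have hsame0 : ∀ f, f ≠ 1 → f = f₀⁻¹ → a f = a₀ ∧ b f = b₀ := by
    rintro f hf rfl
    have := huniq _ hf f₀ hf₀ (T.alpha_inv f₀)
    exact ⟨this.1.trans ha0.1, this.2.trans ha0.2⟩
  have hM : ∃ M : ℤ, ∑ f, c f = (M : ℂ) ∧
      (M = 2 ∨ M = -2 ∨ M = (Nat.card (P : Subgroup G) : ℤ) - 1 ∨
        M = -((Nat.card (P : Subgroup G) : ℤ) - 1)) := by
    have hconst : ∀ z : ℤ, (∀ f, f ≠ 1 → c f = (z : ℂ)) →
        ∑ f, c f = (((Nat.card (P : Subgroup G) : ℤ) - 1) * z : ℤ) := by
      intro z hz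
      rw [← Finset.add_sum_erase _ _ (Finset.mem_univ (1 : (P : Subgroup G) →* ℂˣ)), hc1,
        Finset.sum_congr rfl fun f hf => hz f (Finset.ne_of_mem_erase hf), Finset.sum_const,
        Finset.card_erase_of_mem (Finset.mem_univ _), Finset.card_univ, hcardΛ, nsmul_eq_mul,
        Nat.cast_sub Nat.card_pos]
      push_cast
      ring
    have htwo : ∀ z : ℤ, (∀ f, f = f₀ ∨ f = f₀⁻¹ → c f = (z : ℂ)) →
        (∀ f, f ≠ 1 → f ≠ f₀ → f ≠ f₀⁻¹ → c f = 0) → ∑ f, c f = ((2 * z : ℤ) : ℂ) := by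
      intro z hz hz0
      rw [← Finset.sum_subset (Finset.subset_univ ({f₀, f₀⁻¹} : Finset _)) fun f _ hf => ?_,
        Finset.sum_pair fun h => hf₀ (T.eq_one_of_eq_inv h), hz _ (Or.inl rfl), hz _ (Or.inr rfl)]
      · push_cast; ring
      · rw [Finset.mem_insert, Finset.mem_singleton] at hf
        push Not at hf
        by_cases h : f = 1
        · rw [h, hc1]
        · exact hz0 f h hf.1 hf.2
    have hinv : f₀⁻¹ ≠ 1 := T.hom_inv_ne_one hf₀
    rcases hall with hall | hall <;> rcases hχ with hχ' | hχ'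
    · refine ⟨_, hconst 1 fun f hf => ?_, Or.inr (Or.inr (Or.inl (mul_one _)))⟩
      rw [hcf f hf, hall f hf, hχ', if_pos rfl, if_neg fun h => hab f hf ((hall f hf).trans h.symm)]
      simp
    · refine ⟨_, htwo (-1) (fun f hf => ?_) (fun f h h1 h2 => ?_), Or.inr (Or.inl (by norm_num))⟩
      · have hne : f ≠ 1 := by rcases hf with rfl | rfl <;> assumption
        have e : b f = b₀ := by
          rcases hf with rfl | rfl
          · exact ha0.2
          · exact (hsame0 _ hinv rfl).2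
        rw [hcf f hne, hall f hne, hχ', e, if_neg hab₀, if_pos rfl]
        simp
      · rw [hcf f h, hall f h, hχ', if_neg hab₀, if_neg fun e => ?_, sub_zero]
        rcases hsh f h f₀ hf₀ h1 h2 with h' | h'
        · exact h'.2 (e.trans ha0.2.symm)
        · exact h'.1 ((hall f h).trans ha0.1.symm)
    · refine ⟨_, htwo 1 (fun f hf => ?_) (fun f h h1 h2 => ?_), Or.inl (by norm_num)⟩
      · have hne : f ≠ 1 := by rcases hf with rfl | rfl <;> assumption
        have e : a f = a₀ := by
          rcases hf with rfl | rfl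
          · exact ha0.1
          · exact (hsame0 _ hinv rfl).1
        rw [hcf f hne, hall f hne, hχ', e, if_pos rfl, if_neg (Ne.symm hab₀)]
        simp
      · rw [hcf f h, hall f h, hχ', if_neg (fun e => ?_), if_neg (Ne.symm hab₀), sub_zero]
        rcases hsh f h f₀ hf₀ h1 h2 with h' | h'
        · exact h'.2 ((hall f h).trans ha0.2.symm)
        · exact h'.1 (e.trans ha0.1.symm)
    · refine ⟨_, hconst (-1) fun f hf => ?_, Or.inr (Or.inr (Or.inr (by ring)))⟩
      rw [hcf f hf, hall f hf, hχ', if_pos rfl, if_neg fun h => hab f hf (h.trans (hall f hf).symm)]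
      simp
  obtain ⟨M, hMs, hMv⟩ := hM
  -- the same sum through the elements
  have hsum : (M : ℂ) * (resOrder P : ℂ) =
      ∑ y : cP P, if T.proj y = 1 then 0 else conj ((χ : G → ℂ) (y : G)) := by
    have hP0 : (Nat.card (P : Subgroup G) : ℂ) ≠ 0 := subgroup_card_ne_zero _
    have hV0 : (resOrder P : ℂ) ≠ 0 := Nat.cast_ne_zero.2 T.resOrder_pos.ne'
    have e : ∑ f, c f = (Nat.card (cP P) : ℂ)⁻¹ *
        ∑ y : cP P, (∑ f, T.theta f y) * conj ((χ : G → ℂ) (y : G)) := by
      have e1 : ∀ f, c f = (Nat.card (cP P) : ℂ)⁻¹ *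
          ∑ y : cP P, T.theta f y * conj ((χ : G → ℂ) (y : G)) := fun f => by
        simp only [c]
        rw [show T.alpha f = Cfsg.indFun (cP P) (T.theta f) from rfl,
          classInner_indFun (cP P) (T.theta f) (isClassFunction_of_isIrr χ.2)]
        rfl
      simp only [e1, ← Finset.mul_sum]
      rw [Finset.sum_comm]
      simp only [Finset.sum_mul]
    rw [← hMs, e]
    simp only [T.sum_theta_hom, ite_mul, zero_mul]
    rw [T.card_cP]
    push_cast
    rw [Finset.mul_sum, Finset.sum_mul]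
    refine Finset.sum_congr rfl fun y _ => ?_
    split_ifs <;> field_simp <;> simp
  have hint : IsIntegral ℤ (((M * resOrder P : ℤ) : ℂ) / p) := by
    push_cast
    rw [hsum, Finset.sum_div]
    refine IsIntegral.sum _ fun y _ => ?_
    split_ifs
    · simpa using (isIntegral_zero : IsIntegral ℤ (0 : ℂ))
    · rw [← character_inv (isCharacter_of_isIrr χ.2)]
      refine isIntegral_char_div χ hn hpn _ ?_
      rw [← cent_iff]
      exact ⟨P, inv_mem y.2⟩
  have hp : p.Prime := Fact.out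
  have hdvd := int_dvd_of_isIntegral hp.ne_zero hint
  have hVp : ¬ p ∣ resOrder P := T.sylC.not_dvd_index
  have hMp : (p : ℤ) ∣ M := by
    rcases Int.Prime.dvd_mul' hp hdvd with h | h
    · exact h
    · exact absurd (Int.natCast_dvd_natCast.1 h) hVp
  have h2 : ¬ (p : ℤ) ∣ 2 := fun h => T.ne_two
    ((Nat.prime_dvd_prime_iff_eq hp Nat.prime_two).1 (Int.natCast_dvd_natCast.1 h))
  rcases hMv with rfl | rfl | rfl | rfl
  · exact h2 hMp
  · exact h2 (dvd_neg.1 hMp)
  · have hP : (p : ℤ) ∣ Nat.card (P : Subgroup G) := Int.natCast_dvd_natCast.2 (by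
      obtain ⟨k, hk⟩ := IsPGroup.iff_card.1 P.2
      rcases Nat.eq_zero_or_pos k with rfl | hk0
      · exfalso
        rw [pow_zero] at hk
        exact hf₀ (MonoidHom.ext fun x => by
          rw [(Subtype.ext
            ((eq_bot_iff_forall _).1 (Subgroup.eq_bot_of_card_eq _ hk) x x.2) : x = 1), map_one]
          rfl)
      · rw [hk]; exact dvd_pow_self p hk0.ne')
    have := dvd_sub hP hMp
    rw [sub_sub_cancel] at this
    exact hp.not_dvd_one (Int.natCast_dvd_natCast.1 (by exact_mod_cast this))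
  · have hP : (p : ℤ) ∣ Nat.card (P : Subgroup G) := Int.natCast_dvd_natCast.2 (by
      obtain ⟨k, hk⟩ := IsPGroup.iff_card.1 P.2
      rcases Nat.eq_zero_or_pos k with rfl | hk0
      · exfalso
        rw [pow_zero] at hk
        exact hf₀ (MonoidHom.ext fun x => by
          rw [(Subtype.ext
            ((eq_bot_iff_forall _).1 (Subgroup.eq_bot_of_card_eq _ hk) x x.2) : x = 1), map_one]
          rfl)
      · rw [hk]; exact dvd_pow_self p hk0.ne')
    have := dvd_sub hP (dvd_neg.1 hMp)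
    rw [sub_sub_cancel] at this
    exact hp.not_dvd_one (Int.natCast_dvd_natCast.1 (by exact_mod_cast this))

/-- The equation of pairs at an involution. -/
theorem pairs_equation {f : (P : Subgroup G) →* ℂˣ} (hf : f ≠ 1) {a b : Cfsg.IrrCharacter G}
    (hab : a ≠ b) (ha1 : a ≠ oneChar G) (hb1 : b ≠ oneChar G)
    (h : T.alpha f - (oneChar G : G → ℂ) = (a : G → ℂ) - (b : G → ℂ)) {z : G}
    (hz : orderOf z = 2) :
    (1 + (a : G → ℂ) z - (b : G → ℂ) z = 0) ∧
    ∃ k : ℕ, ((Nat.card (centralizer ({z} : Set G)) * k : ℕ) : ℂ) ^ 2 =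
      (Nat.card G : ℂ) * (Nat.card (cP P) : ℂ) *
        (1 + (a : G → ℂ) z * (a : G → ℂ) z / (a : G → ℂ) 1 -
          (b : G → ℂ) z * (b : G → ℂ) z / (b : G → ℂ) 1) := by
  classical
  haveI := Fintype.ofFinite (cP P)
  have hzero : T.alpha f z = 0 := by
    refine T.alpha_eq_zero f z fun x hx => ?_
    have ho : orderOf (⟨_, hx⟩ : cP P) = 2 := by
      rw [← orderOf_coe]
      show orderOf (x⁻¹ * z * x) = 2
      rw [← hz]
      exact ((MulAut.conj x⁻¹).orderOf_eq z).symm.trans (by simp) |>.symm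
    have hd : orderOf (T.proj ⟨_, hx⟩) ∣ 2 := ho ▸ orderOf_map_dvd T.proj _
    exact orderOf_eq_one_iff.1 (Nat.eq_one_of_dvd_coprimes
      (Nat.coprime_two_right.2 T.odd_card) (orderOf_dvd_natCard _) hd)
  refine ⟨?_, ?_⟩
  · have := congrFun h z
    rw [Pi.sub_apply, Pi.sub_apply, hzero, oneChar_apply] at this
    linear_combination -this
  set u : G → G := fun x => x * z * x⁻¹
  have hu2 : ∀ x, u x * u x = 1 := fun x => by
    have : z * z = 1 := by rw [← pow_two, ← hz, pow_orderOf_eq_one]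
    calc u x * u x = x * (z * z) * x⁻¹ := by simp only [u]; group
      _ = 1 := by rw [this]; group
  set A : Finset G := Finset.univ.filter fun x => u x ∈ nP P ∧ u x ∉ cP P
  -- the count on the side of the pairs
  have hL : ∑ x : G, ∑ y : G, Cfsg.extendByZero (cP P) (T.theta f) (u x * u y) =
      (A.card : ℂ) ^ 2 := by
    have hmemA : ∀ x, x ∈ A ↔ u x ∈ nP P ∧ u x ∉ cP P := fun x => by simp [A]
    have hsupp : ∀ x y : G, ¬ (x ∈ A ∧ y ∈ A) →
        Cfsg.extendByZero (cP P) (T.theta f) (u x * u y) = 0 := by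
      intro x y hxy
      by_cases hm : u x * u y ∈ cP P
      · rw [extendByZero_of_mem _ _ hm]
        apply T.theta_of_proj
        by_contra hne
        have he : (u x)⁻¹ * ((⟨_, hm⟩ : cP P) : G) * u x = (u x * u y)⁻¹ := by
          show (u x)⁻¹ * (u x * u y) * u x = (u x * u y)⁻¹
          exact invol_conj (hu2 x) (hu2 y)
        have hxN := T.mem_nP_of_conj ⟨_, hm⟩ hne (he ▸ inv_mem hm)
        have hxC : u x ∉ cP P := by
          intro hxC
          have h1 := T.proj_conj_cP (inv_mem hxC) ⟨_, hm⟩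
          simp only [inv_inv] at h1
          have h2 : (⟨(u x)⁻¹ * (u x * u y) * u x, by
              have := T.conj_mem (T.cP_le_nP (inv_mem hxC)) ⟨_, hm⟩
              simpa using this⟩ : cP P) = (⟨_, hm⟩ : cP P)⁻¹ := Subtype.ext he
          rw [h2, map_inv] at h1
          have h3 : T.proj ⟨_, hm⟩ ^ 2 = 1 := by
            rw [sq]; nth_rw 1 [← h1]; exact inv_mul_cancel _
          exact hne (orderOf_eq_one_iff.1 (Nat.eq_one_of_dvd_coprimes
            (Nat.coprime_two_right.2 T.odd_card) (orderOf_dvd_natCard _)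
            (orderOf_dvd_of_pow_eq_one h3)))
        have hyN : u y ∈ nP P := by
          have := mul_mem hxN (T.cP_le_nP hm)
          rwa [← mul_assoc, hu2, one_mul] at this
        have hyC : u y ∉ cP P := fun h => hxC (by
          have := mul_mem hm (inv_mem h)
          rwa [mul_inv_cancel_right] at this)
        exact hxy ⟨(hmemA x).2 ⟨hxN, hxC⟩, (hmemA y).2 ⟨hyN, hyC⟩⟩
      · exact extendByZero_of_not_mem _ _ hm
    rw [← Fintype.sum_prod_type', ← Finset.sum_subset (Finset.subset_univ (A ×ˢ A))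
      (fun q _ hq => hsupp q.1 q.2 fun h => hq (Finset.mem_product.2 h))]
    rcases A.eq_empty_or_nonempty with hA | ⟨x₀, hx₀⟩
    · simp [hA]
    have h0 := (hmemA x₀).1 hx₀
    have hmem : ∀ x ∈ A, u x₀ * u x ∈ cP P := fun x hx =>
      T.mul_mem_cP h0.1 h0.2 ((hmemA x).1 hx).1 ((hmemA x).1 hx).2
    let F : G → ℂ := fun x => if hx : x ∈ A then T.lin f ⟨_, hmem x hx⟩ else 0
    let F' : G → ℂ := fun x => if hx : x ∈ A then T.lin f (⟨_, hmem x hx⟩ : cP P)⁻¹ else 0
    have hterm : ∀ q ∈ A ×ˢ A, Cfsg.extendByZero (cP P) (T.theta f) (u q.1 * u q.2) =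
        1 - F' q.1 * F q.2 := by
      intro q hq
      obtain ⟨hx, hy⟩ := Finset.mem_product.1 hq
      have hm : u q.1 * u q.2 ∈ cP P := T.mul_mem_cP ((hmemA _).1 hx).1 ((hmemA _).1 hx).2
        ((hmemA _).1 hy).1 ((hmemA _).1 hy).2
      rw [extendByZero_of_mem _ _ hm]
      have e : (⟨_, hm⟩ : cP P) = (⟨_, hmem _ hx⟩ : cP P)⁻¹ * ⟨_, hmem _ hy⟩ := Subtype.ext (by
        show u q.1 * u q.2 = (u x₀ * u q.1)⁻¹ * (u x₀ * u q.2)
        exact invol_cancel _ (hu2 q.1) _)
      simp only [theta, F, F', dif_pos hx, dif_pos hy, e, lin, map_mul, map_inv, Units.val_mul]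
    rw [Finset.sum_congr rfl hterm, Finset.sum_sub_distrib, Finset.sum_const, Finset.card_product,
      Finset.sum_product, ← Finset.sum_mul_sum]
    -- the shift by an element of the Sylow subgroup
    obtain ⟨w, hw⟩ : ∃ w : (P : Subgroup G), f w ≠ 1 := by
      by_contra hc
      push Not at hc
      exact hf (MonoidHom.ext hc)
    obtain ⟨x, hxw⟩ := (powCoprime (G := (P : Subgroup G))
      (Nat.coprime_two_right.2 T.odd_card)).surjective w
    obtain ⟨x', hx'⟩ := T.proj_bijective.2 x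
    have hxC : (x' : G) ∈ cP P := T.le_cP x'.2
    have hA' : ∀ y ∈ A, (x' : G) * y ∈ A := by
      intro y hy
      have e : u ((x' : G) * y) = (x' : G) * u y * (x' : G)⁻¹ := by simp only [u]; group
      refine (hmemA _).2 ⟨?_, ?_⟩
      · rw [e]; exact mul_mem (mul_mem (T.cP_le_nP hxC) ((hmemA y).1 hy).1)
          (inv_mem (T.cP_le_nP hxC))
      · rw [e]
        intro hc
        have := mul_mem (mul_mem (inv_mem hxC) hc) hxC
        rw [show (x' : G)⁻¹ * ((x' : G) * u y * (x' : G)⁻¹) * x' = u y by group] at this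
        exact ((hmemA y).1 hy).2 this
    have hu : ∀ y ∈ A, u x₀ * u ((x' : G) * y) = (u x₀ * u y) * ((x' : G)⁻¹ * (x' : G)⁻¹) := by
      intro y hy
      have hi := T.inverts ((hmemA y).1 hy).1 ((hmemA y).1 hy).2 x'.2
      have e : u ((x' : G) * y) = (x' : G) * u y * (x' : G)⁻¹ := by simp only [u]; group
      have e2 : (x' : G) * u y = u y * (x' : G)⁻¹ := by
        calc (x' : G) * u y = (u y * u y) * (x' : G) * u y := by rw [hu2, one_mul]
          _ = u y * (u y * (x' : G) * (u y)⁻¹) := by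
            rw [inv_eq_of_mul_eq_one_right (hu2 y)]; group
          _ = u y * (x' : G)⁻¹ := by rw [hi]
      rw [e, e2]
      group
    set ω : ℂ := T.lin f (⟨_, hxC⟩⁻¹ * ⟨_, hxC⟩⁻¹)
    have hF : ∀ y ∈ A, F ((x' : G) * y) = F y * ω := by
      intro y hy
      simp only [F, ω, dif_pos hy, dif_pos (hA' y hy), lin, ← Units.val_mul, ← map_mul]
      congr 3
      exact Subtype.ext (hu y hy)
    have hω : ω ≠ 1 := by
      have e : T.proj (⟨_, hxC⟩⁻¹ * ⟨_, hxC⟩⁻¹) = w⁻¹ := by
        rw [map_mul, map_inv, show T.proj ⟨_, hxC⟩ = x from hx', ← mul_inv_rev, ← hxw]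
        simp [pow_two]
      intro hc
      simp only [ω, lin, e, map_inv] at hc
      exact hw (inv_eq_one.1 (Units.ext hc))
    have hAmap : A.image (fun y => (x' : G) * y) = A := by
      refine Finset.eq_of_subset_of_card_le ?_ (le_of_eq
        (Finset.card_image_of_injective _ (mul_right_injective _)).symm)
      intro y hy
      obtain ⟨t, ht, rfl⟩ := Finset.mem_image.1 hy
      exact hA' t ht
    have hS : (∑ y ∈ A, F y) * (1 - ω) = 0 := by
      have e : ∑ y ∈ A, F y = ∑ y ∈ A, F y * ω := by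
        conv_lhs => rw [← hAmap]
        rw [Finset.sum_image fun _ _ _ _ h => mul_left_cancel h]
        exact Finset.sum_congr rfl hF
      rw [← Finset.sum_mul] at e
      linear_combination e
    rw [(mul_eq_zero.1 hS).resolve_right (sub_ne_zero.2 (Ne.symm hω)), mul_zero, sub_zero]
    simp [sq]
  -- the count on the side of the characters
  have hR : ∑ x : G, ∑ y : G, Cfsg.extendByZero (cP P) (T.theta f) (u x * u y) =
      (Nat.card G : ℂ) * (Nat.card (cP P) : ℂ) * ∑ χ : Cfsg.IrrCharacter G,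
        Cfsg.classInner (T.alpha f) (χ : G → ℂ) *
          ((χ : G → ℂ) z * (χ : G → ℂ) z / (χ : G → ℂ) 1) := by
    have e1 : ∀ v : G, Cfsg.extendByZero (cP P) (T.theta f) v =
        ∑ y : cP P, T.theta f y * (if v ∈ ({(y : G)} : Finset G) then (1 : ℂ) else 0) := by
      intro v
      by_cases hv : v ∈ cP P
      · rw [extendByZero_of_mem _ _ hv, Finset.sum_eq_single (⟨v, hv⟩ : cP P)]
        · simp
        · intro y _ hy
          have : v ≠ (y : G) := fun e => hy (Subtype.ext e.symm)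
          simp [this]
        · simp
      · rw [extendByZero_of_not_mem _ _ hv, Finset.sum_eq_zero]
        intro y _
        have : v ≠ (y : G) := fun e => hv (e ▸ y.2)
        simp [this]
    simp only [e1]
    rw [Finset.sum_congr rfl fun x _ => Finset.sum_comm, Finset.sum_comm]
    simp only [← Finset.mul_sum, u, CfsgLib.ClassPairs.card_pairs, Finset.sum_singleton]
    simp only [Finset.mul_sum]
    rw [Finset.sum_comm]
    refine Finset.sum_congr rfl fun χ _ => ?_
    rw [show T.alpha f = Cfsg.indFun (cP P) (T.theta f) from rfl,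
      classInner_indFun (cP P) (T.theta f) (isClassFunction_of_isIrr χ.2), Cfsg.classInner,
      Finset.mul_sum, Finset.sum_mul, Finset.mul_sum]
    refine Finset.sum_congr rfl fun y _ => ?_
    have hc : (Nat.card (cP P) : ℂ) ≠ 0 := subgroup_card_ne_zero _
    field_simp
  have hcoef : ∑ χ : Cfsg.IrrCharacter G, Cfsg.classInner (T.alpha f) (χ : G → ℂ) *
        ((χ : G → ℂ) z * (χ : G → ℂ) z / (χ : G → ℂ) 1) =
      1 + (a : G → ℂ) z * (a : G → ℂ) z / (a : G → ℂ) 1 -
          (b : G → ℂ) z * (b : G → ℂ) z / (b : G → ℂ) 1 := by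
    simp only [T.classInner_alpha_irr h, add_mul, sub_mul, ite_mul, one_mul, zero_mul,
      Finset.sum_add_distrib, Finset.sum_sub_distrib, Finset.sum_ite_eq, Finset.mem_univ, if_true,
      oneChar_apply]
    ring
  obtain ⟨k, hk⟩ : Nat.card (centralizer ({z} : Set G)) ∣ A.card := by
    have := Cfsg.Agent.S4314.card_dvd_of_mul_mem (centralizer ({z} : Set G)) (↑A : Set G)
      fun s hs c hc => by
        have e : u (s * c) = u s := by
          simp only [u]
          rw [mul_inv_rev, ← mul_assoc, mul_assoc s c z, mem_centralizer_singleton_iff.1 hc,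
            ← mul_assoc s z c, mul_inv_cancel_right]
        simpa [A, e] using hs
    rwa [Set.ncard_coe_finset] at this
  refine ⟨k, ?_⟩
  rw [← hk, ← hL, hR, hcoef]

end TICtx

end CfsgLib.TwoPrimeClasses
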