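import Cfsg.Agent.TwoPrimeClasses.Points
import Mathlib.GroupTheory.Perm.Fin

/-!
# A simple normal subgroup has no outer part
-/

set_option autoImplicit false
set_option linter.unusedSectionVars false
set_option linter.style.haveILetI false

namespace CfsgLib.TwoPrimeClasses

open Subgroup

universe u

variable {G : Type u} [Group G] [Finite G] (T : Subgroup G) [T.Normal]

/-- The action on the Sylow 2-subgroups of a normal subgroup. -/
noncomputable def ptsHom : G →* Equiv.Perm (Sylow 2 T) :=
  (MulAction.toPermHom (MulAut T) (Sylow 2 T)).comp MulAut.conjNormal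

theorem ptsHom_coe (t : T) (a : Sylow 2 T) : ptsHom T (t : G) a = t • a := by
  show (MulAut.conjNormal (t : G) : MulAut T) • a = t • a
  rw [MulAut.conjNormal_val, Sylow.smul_def]

variable {T} [IsSimpleGroup T]

theorem ptsHom_injective (D : SimpleData T) (hC : centralizer (T : Set G) = ⊥) :
    Function.Injective (ptsHom T) := by
  refine (MonoidHom.ker_eq_bot_iff _).1 ((eq_bot_iff_forall _).2 fun g hg => ?_)
  have hgC : g ∈ centralizer (T : Set G) := mem_centralizer_iff.2 fun t ht => by
    have hmem : g * t * g⁻¹ * t⁻¹ ∈ T := mul_mem (Normal.conj_mem inferInstance t ht g) (inv_mem ht)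
    have h1 : (⟨_, hmem⟩ : T) = 1 := D.eq_one_of_fix_all fun a => by
      rw [← ptsHom_coe]
      have hone : ptsHom T (g * t * g⁻¹ * t⁻¹) = 1 := by
        simp [MonoidHom.mem_ker.1 hg]
      simp [hone]
    have h2 : g * t * g⁻¹ * t⁻¹ = 1 := congrArg Subtype.val h1
    calc t * g = (g * t * g⁻¹ * t⁻¹) * t * g := by rw [h2, one_mul]
      _ = g * t := by group
  rwa [hC, mem_bot] at hgC

theorem exists_cent_sylow (h : TwoPrimes G) (D : SimpleData T) (g : G) :
    ∃ r : ℕ, ∃ _ : Fact r.Prime, r ∣ Nat.card T ∧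
      ∃ R : Sylow r T, ∀ x ∈ (R : Subgroup T), Commute g (x : G) := by
  obtain ⟨c, hc, h2T, h3T, hcT, hc2, hc3⟩ : ∃ c : ℕ, c.Prime ∧ 2 ∣ Nat.card T ∧ 3 ∣ Nat.card T ∧
      c ∣ Nat.card T ∧ c ≠ 2 ∧ c ≠ 3 := by
    rcases D.card with e | e
    · exact ⟨5, by norm_num, by rw [e]; norm_num, by rw [e]; norm_num, by rw [e]; norm_num,
        by norm_num, by norm_num⟩
    · exact ⟨7, by norm_num, by rw [e]; norm_num, by rw [e]; norm_num, by rw [e]; norm_num,
        by norm_num, by norm_num⟩
  obtain ⟨r, hr, hrT, hrg⟩ : ∃ r : ℕ, r.Prime ∧ r ∣ Nat.card T ∧ ¬ r ∣ cidx g := by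
    by_contra hcon
    push Not at hcon
    exact h.not_three g Nat.prime_two Nat.prime_three hc (by norm_num) hc2.symm hc3.symm
      (hcon 2 Nat.prime_two h2T) (hcon 3 Nat.prime_three h3T) (hcon c hc hcT)
  haveI := Fact.mk hr
  refine ⟨r, ⟨hr⟩, hrT, ?_⟩
  obtain ⟨R, hR⟩ := (cent_iff g).2 hrg
  have hp : IsPGroup r ((R : Subgroup G).subgroupOf T) := R.2.comap_subtype
  have hidx : ¬ r ∣ ((R : Subgroup G).subgroupOf T).index := fun hd =>
    R.not_dvd_index (hd.trans (relIndex_dvd_index_normal _ T))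
  exact ⟨hp.toSylow hidx, fun x hx =>
    (mem_centralizer_iff.1 hR (x : G) (mem_subgroupOf.1 hx)).symm⟩

/-- A transposition of five points together with the simple group gives the symmetric group. -/
theorem false_of_swap_five {X : Type*} [Group X] [Finite X] (h : TwoPrimes X) {Ω : Type*}
    [Fintype Ω] [DecidableEq Ω] (hΩ : Fintype.card Ω = 5) (φ : X →* Equiv.Perm Ω)
    (hφ : Function.Injective φ) (S : Subgroup X) (hS : Nat.card S = 60)
    (hperf : commutator S = ⊤) {τ : X} (hτ : Equiv.Perm.sign (φ τ) = -1) : False := by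
  let ε : X →* ℤˣ := Equiv.Perm.sign.comp φ
  have hle : S ≤ ε.ker := fun x hx => by
    have h1 : commutator S ≤ (ε.comp S.subtype).ker := Abelianization.commutator_subset_ker _
    rw [hperf] at h1
    exact h1 (mem_top (⟨x, hx⟩ : S))
  have hne : ε.ker ≠ ⊤ := fun e => by
    have : ε τ = 1 := MonoidHom.mem_ker.1 (e ▸ mem_top τ)
    rw [show ε τ = -1 from hτ] at this
    exact absurd this (by decide)
  have h120 : Nat.card X = 120 := by
    have h1 : Nat.card X ≤ 120 := by
      refine le_trans (Nat.card_le_card_of_injective φ hφ) (le_of_eq ?_)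
      rw [Nat.card_eq_fintype_card, Fintype.card_perm, hΩ]
      rfl
    have h2 := card_mul_index ε.ker
    have h3 : 60 ≤ Nat.card ε.ker := hS ▸ card_le_of_le hle
    have h4 : 2 ≤ ε.ker.index := by
      have h5 := index_ne_zero_of_finite (H := ε.ker)
      have h6 : ε.ker.index ≠ 1 := fun e => hne (index_eq_one.1 e)
      omega
    have := Nat.mul_le_mul h3 h4
    omega
  have hbij : Function.Bijective φ :=
    (Nat.bijective_iff_injective_and_card _).2 ⟨hφ, by
      rw [h120, Nat.card_eq_fintype_card, Fintype.card_perm, hΩ]; rfl⟩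
  let e : Ω ≃ Fin 5 := (Fintype.equivFinOfCardEq hΩ)
  have h5 : TwoPrimes (Equiv.Perm (Fin 5)) :=
    (h.of_surjective hbij.2).of_surjective (f := e.permCongrHom.toMonoidHom) e.permCongrHom.surjective
  let σ : Equiv.Perm (Fin 5) := Equiv.swap 0 1 * Equiv.swap 1 2 * Equiv.swap 2 3
  have hcard : Nat.card (centralizer ({σ} : Set (Equiv.Perm (Fin 5)))) = 4 := by
    rw [Nat.card_congr (Equiv.subtypeEquivRight (fun y => mem_centralizer_singleton_iff :
      ∀ y, y ∈ centralizer ({σ} : Set (Equiv.Perm (Fin 5))) ↔ y * σ = σ * y)),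
      Nat.card_eq_fintype_card]
    decide +kernel
  have hidx : cidx σ = 30 := by
    have h1 := card_mul_index (centralizer ({σ} : Set (Equiv.Perm (Fin 5))))
    rw [hcard, Nat.card_eq_fintype_card, Fintype.card_perm, Fintype.card_fin] at h1
    change 4 * cidx σ = _ at h1
    norm_num [Nat.factorial] at h1
    omega
  exact h5.not_three σ Nat.prime_two Nat.prime_three (Nat.prime_five) (by norm_num) (by norm_num)
    (by norm_num) (hidx ▸ by norm_num) (hidx ▸ by norm_num) (hidx ▸ by norm_num)

/-- With trivial centraliser the normal simple subgroup is everything. -/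
theorem eq_top_of_centralizer_eq_bot (h : TwoPrimes G) (hT : ¬ IsMulCommutative T)
    (hC : centralizer (T : Set G) = ⊥) : T = ⊤ := by
  classical
  haveI : Fact (Nat.Prime 2) := ⟨Nat.prime_two⟩
  have D : SimpleData T := simple_data hT (h.of_normal T)
  haveI := Fintype.ofFinite (Sylow 2 T)
  set φ := ptsHom T
  have hφ := ptsHom_injective D hC
  refine (eq_top_iff' T).2 fun g => ?_
  obtain ⟨r, hrF, hrT, R, hR⟩ := exists_cent_sylow h D g
  obtain ⟨hfree, hcard, hF⟩ := D.fixed_data hrT R
  set F := fixedPts (R : Subgroup T)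
  have hmove : ∀ (x : T), x ∈ (R : Subgroup T) → ∀ a, φ g (x • a) = x • φ g a := by
    intro x hx a
    rw [← ptsHom_coe, ← ptsHom_coe, ← Equiv.Perm.mul_apply, ← Equiv.Perm.mul_apply, ← map_mul,
      ← map_mul, (hR x hx).eq]
  have hpres : ∀ a, φ g a ∈ F → a ∈ F := by
    intro a ha x hx
    exact (φ g).injective (by rw [hmove x hx]; exact ha x hx)
  -- `g` agrees with an element of `R` on the moved points
  obtain ⟨a₀, ha₀⟩ : (Fᶜ).Nonempty :=
    Set.nonempty_of_ncard_ne_zero (by rw [hcard]; exact Nat.card_pos.ne')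
  let f : ↥(R : Subgroup T) → Sylow 2 T := fun x => (x : T) • a₀
  have hinj : Function.Injective f := by
    intro x y hxy
    have h1 : ((y⁻¹ * x : (R : Subgroup T)) : T) • a₀ = a₀ := by
      simp only [f] at hxy
      rw [coe_mul, mul_smul, hxy, ← mul_smul, coe_inv, inv_mul_cancel, one_smul]
    by_contra hne
    exact ha₀ (hfree _ (SetLike.coe_mem _) (fun e => hne (inv_mul_eq_one.1
      (Subtype.ext e : y⁻¹ * x = 1)).symm) a₀ h1)
  have hrange : Set.range f = Fᶜ := by
    refine Set.eq_of_subset_of_ncard_le ?_ ?_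
    · rintro _ ⟨x, rfl⟩ hc
      refine ha₀ fun y hy => ?_
      have h1 := hc ((x : T) * y * (x : T)⁻¹) (by
        exact mul_mem (mul_mem x.2 hy) (inv_mem x.2))
      simp only [f] at h1
      rw [← mul_smul, inv_mul_cancel_right, mul_smul] at h1
      exact (MulAction.injective (x : T)) h1
    · rw [hcard, Set.ncard_range_of_injective hinj]
  obtain ⟨s, hs⟩ : φ g a₀ ∈ Set.range f := hrange ▸ fun hc => ha₀ (hpres a₀ hc)
  set τ : G := g * ((s : T) : G)⁻¹
  have hfix : ∀ a, a ∉ F → φ τ a = a := by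
    intro a ha
    obtain ⟨u, hu⟩ : ((s : T)⁻¹ • a) ∈ Set.range f := hrange ▸ fun hc => ha fun y hy => by
      have h1 := hc ((s : T)⁻¹ * y * (s : T)) (mul_mem (mul_mem (inv_mem s.2) hy) s.2)
      rw [← mul_smul, mul_inv_cancel_right, mul_smul] at h1
      exact (MulAction.injective (s : T)⁻¹) h1
    simp only [τ, map_mul, map_inv, Equiv.Perm.mul_apply]
    have e : (φ ((s : T) : G))⁻¹ a = (s : T)⁻¹ • a := by
      rw [← map_inv, ← coe_inv, ptsHom_coe]
    rw [e, ← hu]
    simp only [f]
    rw [hmove u u.2, ← hs]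
    simp only [f]
    rw [← mul_smul, show (u : T) * (s : T) = (s : T) * u from congrArg Subtype.val
      ((D.ab r hrF.out R).is_comm.comm u s), mul_smul]
    rw [show (u : T) • a₀ = (s : T)⁻¹ • a from hu, smul_inv_smul]
  have hτF : ∀ a, a ∈ F → φ τ a ∈ F := fun a ha => by
    by_contra hc
    exact hc (((φ τ).injective (hfix _ hc)).symm ▸ ha)
  have hgτ : g = τ * ((s : T) : G) := by simp [τ]
  by_cases hτ1 : φ τ = 1
  · have h1 : τ = 1 := hφ (by rw [hτ1, map_one])
    rw [hgτ, h1, one_mul]
    exact (s : T).2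
  exfalso
  -- otherwise a transposition of the two fixed points
  obtain ⟨b, hb⟩ : ∃ b, φ τ b ≠ b := by
    by_contra hcon
    push Not at hcon
    exact hτ1 (Equiv.Perm.ext hcon)
  have hbF : b ∈ F := by_contra fun hc => hb (hfix b hc)
  have hcF : φ τ b ∈ F := hτF b hbF
  have hFeq : F = {b, φ τ b} := by
    refine (Set.eq_of_subset_of_ncard_le ?_ ?_).symm
    · rintro x (rfl | rfl) <;> assumption
    · rw [Set.ncard_pair hb.symm]; exact hF
  have hswap : φ τ = Equiv.swap b (φ τ b) := by
    refine Equiv.ext fun x => ?_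
    by_cases hxb : x = b
    · rw [hxb, Equiv.swap_apply_left]
    by_cases hxc : x = φ τ b
    · rw [hxc, Equiv.swap_apply_right]
      have h1 := hτF _ hcF
      rw [hFeq] at h1
      rcases h1 with h1 | h1
      · exact h1
      · exact absurd ((φ τ).injective h1) hb
    · rw [Equiv.swap_apply_of_ne_of_ne hxb hxc]
      exact hfix x (by rw [hFeq]; simp [hxb, hxc])
  rcases D.card_points with ⟨hN, hn⟩ | ⟨hN, hn⟩
  · exact false_of_swap_five h (by rw [← Nat.card_eq_fintype_card, hn]) φ hφ T hN
      (commutator_eq_top hT) (τ := τ) (by rw [hswap, Equiv.Perm.sign_swap hb.symm])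
  · -- nine points: the commutators fix too much
    have hτC : τ ∈ centralizer (T : Set G) := mem_centralizer_iff.2 fun t ht => by
      have hmem : τ * t * τ⁻¹ * t⁻¹ ∈ T :=
        mul_mem (Normal.conj_mem inferInstance t ht τ) (inv_mem ht)
      have h1 : (⟨_, hmem⟩ : T) = 1 := by
        by_contra hne
        have hle := D.card_fix_le hne
        let M : Set (Sylow 2 T) := {b, φ τ b} ∪ φ t '' {b, φ τ b}
        have hM : M.ncard ≤ 4 := by
          refine (Set.ncard_union_le _ _).trans ?_
          have h2 : ({b, φ τ b} : Set (Sylow 2 T)).ncard = 2 := Set.ncard_pair hb.symm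
          have := Set.ncard_image_le (f := φ t) (s := ({b, φ τ b} : Set (Sylow 2 T)))
          omega
        have hsub : Mᶜ ⊆ {a : Sylow 2 T | (⟨_, hmem⟩ : T) • a = a} := by
          intro a ha
          show (⟨_, hmem⟩ : T) • a = a
          rw [← ptsHom_coe]
          simp only [M, Set.mem_compl_iff, Set.mem_union, not_or] at ha
          have hτi : ∀ x, x ∉ F → (φ τ)⁻¹ x = x := fun x hx =>
            Equiv.Perm.inv_eq_iff_eq.2 (hfix x hx).symm
          have h3 : (φ t)⁻¹ a ∉ F := fun hc =>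
            ha.2 ⟨(φ t)⁻¹ a, hFeq ▸ hc, Equiv.apply_symm_apply (φ t) a⟩
          show φ (τ * t * τ⁻¹ * t⁻¹) a = a
          simp only [map_mul, map_inv, Equiv.Perm.mul_apply]
          rw [hτi _ h3, Equiv.Perm.coe_inv, Equiv.apply_symm_apply, hfix a (fun hc => ha.1 (hFeq ▸ hc))]
        have := Set.ncard_le_ncard hsub
        rw [Set.ncard_compl, hn] at this
        omega
      have h2 : τ * t * τ⁻¹ * t⁻¹ = 1 := congrArg Subtype.val h1
      calc t * τ = (τ * t * τ⁻¹ * t⁻¹) * t * τ := by rw [h2, one_mul]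
        _ = τ * t := by group
    rw [hC, mem_bot] at hτC
    exact hτ1 (by rw [hτC, map_one])

/-- A normal simple subgroup and its centraliser make up the group. -/
theorem simple_normal_split (h : TwoPrimes G) (hT : ¬ IsMulCommutative T) :
    T ⊔ centralizer (T : Set G) = ⊤ ∧ T ⊓ centralizer (T : Set G) = ⊥ := by
  classical
  have hTC : T ⊓ centralizer (T : Set G) = ⊥ := by
    rcases (inferInstance : ((T ⊓ centralizer (T : Set G)).subgroupOf T).Normal).eq_bot_or_eq_top
      with e | e
    · refine (eq_bot_iff_forall _).2 fun x hx => ?_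
      exact congrArg Subtype.val ((eq_bot_iff_forall _).1 e ⟨x, hx.1⟩ (mem_subgroupOf.2 hx))
    · exfalso
      refine hT ⟨⟨fun a b => Subtype.ext ?_⟩⟩
      have hb : (b : G) ∈ T ⊓ centralizer (T : Set G) := mem_subgroupOf.1 (e.ge (mem_top b))
      exact mem_centralizer_iff.1 hb.2 (a : G) a.2
  refine ⟨?_, hTC⟩
  set C := centralizer (T : Set G) with hCdef
  let π := QuotientGroup.mk' C
  have hπ : Function.Surjective π := QuotientGroup.mk'_surjective C
  haveI : (T.map π).Normal := Subgroup.Normal.map inferInstance π hπ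
  have hinj : Function.Injective (π.comp T.subtype) := by
    refine (MonoidHom.ker_eq_bot_iff _).1 ((eq_bot_iff_forall _).2 fun x hx => Subtype.ext ?_)
    exact (eq_bot_iff_forall _).1 hTC x ⟨x.2, (QuotientGroup.eq_one_iff _).1 hx⟩
  let e : T ≃* T.map π := (MonoidHom.ofInjective hinj).trans
    (MulEquiv.subgroupCongr (by rw [MonoidHom.range_comp, range_subtype]))
  haveI : IsSimpleGroup (T.map π) := e.symm.isSimpleGroup
  have htop := eq_top_of_centralizer_eq_bot (T := T.map π) (h.of_surjective hπ) (fun hab => hT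
    ⟨⟨fun a b => e.injective (by rw [map_mul, map_mul, hab.is_comm.comm])⟩⟩) (by
    refine (eq_bot_iff_forall _).2 fun y hy => ?_
    obtain ⟨g, rfl⟩ := hπ y
    refine (QuotientGroup.eq_one_iff _).2 (mem_centralizer_iff.2 fun t ht => ?_)
    have h1 : π (t * g * t⁻¹ * g⁻¹) = 1 := by
      simp only [map_mul, map_inv]
      rw [mem_centralizer_iff.1 hy (π t) (mem_map_of_mem _ ht)]
      group
    have h2 : t * g * t⁻¹ * g⁻¹ ∈ T ⊓ C := ⟨by
      rw [show t * g * t⁻¹ * g⁻¹ = t * (g * t⁻¹ * g⁻¹) by group]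
      exact mul_mem ht (Normal.conj_mem inferInstance _ (inv_mem ht) g),
      (QuotientGroup.eq_one_iff _).1 h1⟩
    rw [hTC, mem_bot] at h2
    calc t * g = (t * g * t⁻¹ * g⁻¹) * g * t := by group
      _ = g * t := by rw [h2, one_mul])
  refine (eq_top_iff' _).2 fun g => ?_
  obtain ⟨t, ht, htg⟩ := htop.ge (mem_top (π g))
  rw [show g = t * (t⁻¹ * g) by group]
  exact mul_mem (mem_sup_left ht) (mem_sup_right (QuotientGroup.eq.1 htg))

end CfsgLib.TwoPrimeClasses
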