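import Cfsg.Agent.TwoPrimeClasses.Count
import Cfsg.Agent.CAGroups.Simple

/-!
# Centralisers in the simple case with three prime divisors

No class size is a prime power, so an element cannot centralise Sylow subgroups for two primes.
Hence commuting elements of coprime prime power orders are rare, and the centraliser of an
element of a small-automiser Sylow subgroup is the centraliser of that subgroup.
-/

set_option autoImplicit false
set_option linter.unusedSectionVars false
set_option linter.style.haveILetI false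

namespace CfsgLib.TwoPrimeClasses

open Subgroup

universe u

variable {G : Type u} [Group G]

theorem mem_zpowers_mul_left [Finite G] {x y : G} (hxy : Commute x y)
    (hcop : (orderOf x).Coprime (orderOf y)) : x ∈ zpowers (x * y) := by
  obtain ⟨m, hm1, hm2⟩ := Nat.chineseRemainder hcop 1 0
  have e : (x * y) ^ m = x := by
    rw [hxy.mul_pow, pow_eq_pow_iff_modEq.2 hm1, pow_eq_pow_iff_modEq.2 hm2, pow_one, pow_zero,
      mul_one]
  have := pow_mem (mem_zpowers (x * y)) m
  rwa [e] at this

theorem mem_zpowers_mul_right [Finite G] {x y : G} (hxy : Commute x y)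
    (hcop : (orderOf x).Coprime (orderOf y)) : y ∈ zpowers (x * y) := by
  rw [hxy.eq]
  exact mem_zpowers_mul_left hxy.symm hcop.symm

theorem Cent.of_mem_zpowers {r : ℕ} {a x : G} (h : Cent r a) (hx : x ∈ zpowers a) : Cent r x := by
  obtain ⟨R, hR⟩ := h
  exact ⟨R, zpowers_le.2 hR hx⟩

theorem commutator_eq_top [IsSimpleGroup G] (hG : ¬ IsMulCommutative G) : commutator G = ⊤ := by
  rcases (inferInstance : (commutator G).Normal).eq_bot_or_eq_top with h | h
  · exact absurd ((commutator_eq_bot_iff (G := G)).1 h) hG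
  · exact h

/-- The three primes and the fact that no class size is a prime power. -/
structure Setup (G : Type u) [Group G] (p q s : ℕ) : Prop where
  h : TwoPrimes G
  simple : IsSimpleGroup G
  noncomm : ¬ IsMulCommutative G
  hp : p.Prime
  hq : q.Prime
  hs : s.Prime
  hpq : p ≠ q
  hps : p ≠ s
  hqs : q ≠ s
  primes : (Nat.card G).primeFactors = {p, q, s}

variable {p q s : ℕ} [Finite G]

theorem Setup.swap (E : Setup G p q s) : Setup G q p s :=
  ⟨E.h, E.simple, E.noncomm, E.hq, E.hp, E.hs, E.hpq.symm, E.hqs, E.hps, by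
    rw [E.primes]; exact Finset.insert_comm _ _ _⟩

theorem Setup.rot (E : Setup G p q s) : Setup G q s p :=
  ⟨E.h, E.simple, E.noncomm, E.hq, E.hs, E.hp, E.hqs, E.hpq.symm, E.hps.symm, by
    rw [E.primes]; ext t; simp; tauto⟩

theorem Setup.dvd_cases (E : Setup G p q s) {t : ℕ} (ht : t.Prime) (hd : t ∣ Nat.card G) :
    t = p ∨ t = q ∨ t = s := by
  have := Nat.mem_primeFactors.2 ⟨ht, hd, (Nat.card_pos (α := G)).ne'⟩
  rw [E.primes] at this
  simpa using this

theorem Setup.dvd (E : Setup G p q s) : p ∣ Nat.card G :=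
  (Nat.mem_primeFactors.1 (E.primes ▸ Finset.mem_insert_self p _)).2.1

/-- An element centralising Sylow subgroups for two of the three primes is trivial. -/
theorem Setup.not_cent_two (E : Setup G p q s) {x : G} (hx : x ≠ 1) (hp : Cent p x)
    (hq : Cent q x) : False := by
  haveI := E.simple
  haveI := Fact.mk E.hp
  haveI := Fact.mk E.hq
  rw [cent_iff] at hp hq
  have hpow : cidx x = s ^ (cidx x).primeFactorsList.length := by
    refine Nat.eq_prime_pow_of_unique_prime_dvd (cidx_ne_zero x) fun {d} hd hdd => ?_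
    rcases E.dvd_cases hd (hdd.trans (index_dvd_card _)) with rfl | rfl | rfl
    · exact absurd hdd hp
    · exact absurd hdd hq
    · rfl
  have hprime := CfsgLib.Characters.prime_card_of_primePow_class s _ E.hs x hx hpow
  haveI := isCyclic_of_prime_card (hp := ⟨hprime⟩) (rfl : Nat.card G = Nat.card G)
  exact E.noncomm inferInstance

theorem Setup.cent_cases (E : Setup G p q s) (x : G) : Cent p x ∨ Cent q x ∨ Cent s x := by
  haveI := Fact.mk E.hp
  haveI := Fact.mk E.hq
  haveI := Fact.mk E.hs
  simp only [cent_iff]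
  by_contra hcon
  push Not at hcon
  exact E.h.not_three x E.hp E.hq E.hs E.hpq E.hps E.hqs hcon.1 hcon.2.1 hcon.2.2

theorem coprime_of_pow {x y : G} {a b : ℕ} (ha : a.Prime) (hb : b.Prime) (hab : a ≠ b)
    (hx : ∃ k, orderOf x = a ^ k) (hy : ∃ k, orderOf y = b ^ k) :
    (orderOf x).Coprime (orderOf y) := by
  obtain ⟨i, hi⟩ := hx
  obtain ⟨j, hj⟩ := hy
  rw [hi, hj]
  exact Nat.Coprime.pow i j ((Nat.coprime_primes ha hb).2 hab)

/-- Commuting elements of two primes with abelian Sylow subgroups are trivial. -/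
theorem Setup.no_mixed (E : Setup G p q s) (P : Sylow p G)
    (hPab : IsMulCommutative (P : Subgroup G)) (Q : Sylow q G)
    (hQab : IsMulCommutative (Q : Subgroup G)) {x y : G} (hx : ∃ k, orderOf x = p ^ k)
    (hy : ∃ k, orderOf y = q ^ k) (hx1 : x ≠ 1) (hy1 : y ≠ 1) (hxy : Commute x y) : False := by
  haveI := Fact.mk E.hp
  haveI := Fact.mk E.hq
  have hcop := coprime_of_pow E.hp E.hq E.hpq hx hy
  have hxm := mem_zpowers_mul_left hxy hcop
  have hym := mem_zpowers_mul_right hxy hcop
  rcases E.cent_cases (x * y) with h | h | h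
  · exact E.not_cent_two hy1 (h.of_mem_zpowers hym) (cent_of_pElement hQab hy)
  · exact E.not_cent_two hx1 (cent_of_pElement hPab hx) (h.of_mem_zpowers hxm)
  · exact E.rot.rot.not_cent_two hx1 (h.of_mem_zpowers hxm) (cent_of_pElement hPab hx)

/-- An element of a Sylow subgroup with prime automiser is only centralised inside the
centraliser of the subgroup. -/
theorem normalizer_inf_centralizer_le [IsSimpleGroup G] (hG : ¬ IsMulCommutative G) [Fact p.Prime]
    (R : Sylow p G) (hab : IsMulCommutative (R : Subgroup G)) (he : (autoOrder R).Prime)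
    {x : G} (hx : x ∈ (R : Subgroup G)) (hx1 : x ≠ 1) :
    normalizer ((R : Subgroup G) : Set G) ⊓ centralizer ({x} : Set G) ≤
      centralizer ((R : Subgroup G) : Set G) := by
  set N := normalizer ((R : Subgroup G) : Set G)
  set C := centralizer ((R : Subgroup G) : Set G)
  by_contra hle
  have hCN : C ≤ N := centralizer_le_normalizer _
  have hCx : C ≤ centralizer ({x} : Set G) := fun c hc =>
    mem_centralizer_singleton_iff.2 (mem_centralizer_iff.1 hc x hx).symm
  set M := N ⊓ centralizer ({x} : Set G)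
  have hCM : C ≤ M := le_inf hCN hCx
  have hmul : C.relIndex M * M.relIndex N = autoOrder R := relIndex_mul_relIndex _ _ _ hCM inf_le_left
  have h1 : C.relIndex M ≠ 1 := fun e => hle (relIndex_eq_one.1 e)
  have hMN : M.relIndex N = 1 := by
    rcases (Nat.dvd_prime he).1 ⟨_, hmul.symm⟩ with e | e
    · exact absurd e h1
    · rw [e] at hmul
      exact Nat.eq_of_mul_eq_mul_left he.pos (by rw [hmul, mul_one])
  have hNx : N ≤ centralizer ({x} : Set G) := (relIndex_eq_one.1 hMN).trans inf_le_right
  -- transfer kills a central element of the normaliser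
  letI : CommGroup (R : Subgroup G) :=
    { (inferInstance : Group (R : Subgroup G)) with mul_comm := hab.is_comm.comm }
  haveI := hab
  let φ : (R : Subgroup G) →* (R : Subgroup G) := MonoidHom.id _
  let τ : G →* (R : Subgroup G) := φ.transfer
  have hτ : τ x = ⟨x ^ (R : Subgroup G).index, pow_mem hx _⟩ := by
    refine MonoidHom.transfer_eq_pow φ x fun k g₀ hk => ?_
    obtain ⟨n, hn, hnn⟩ := R.conj_eq_normalizer_conj_of_mem (x ^ k) g₀ (pow_mem hx k) hk
    rw [hnn]
    have hc : Commute n (x ^ k) :=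
      ((show Commute n x from mem_centralizer_singleton_iff.1 (hNx hn)).pow_right k)
    rw [mul_assoc, ← hc.eq, inv_mul_cancel_left]
  have hτ1 : τ x = 1 := by
    have hker : commutator G ≤ τ.ker := Abelianization.commutator_subset_ker τ
    rw [commutator_eq_top hG] at hker
    exact hker (mem_top x)
  rw [hτ] at hτ1
  have hpow : x ^ (R : Subgroup G).index = 1 := congrArg Subtype.val hτ1
  obtain ⟨k, hk⟩ := IsPGroup.iff_orderOf.1 R.2 ⟨x, hx⟩
  rw [orderOf_mk] at hk
  have hcop : (orderOf x).Coprime (R : Subgroup G).index := by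
    rw [hk]
    exact Nat.Coprime.pow_left k ((Fact.out : p.Prime).coprime_iff_not_dvd.2 R.not_dvd_index)
  exact hx1 (orderOf_eq_one_iff.1 (Nat.eq_one_of_dvd_coprimes hcop dvd_rfl
    (orderOf_dvd_of_pow_eq_one hpow)))

/-- The centraliser of a non-trivial element of a Sylow `p`-subgroup with prime automiser. -/
theorem Setup.centralizer_eq (E : Setup G p q s) (P : Sylow p G)
    (hPab : IsMulCommutative (P : Subgroup G)) (Q : Sylow q G)
    (hQab : IsMulCommutative (Q : Subgroup G)) (he : (autoOrder P).Prime) {x : G}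
    (hx : x ∈ (P : Subgroup G)) (hx1 : x ≠ 1) :
    centralizer ({x} : Set G) = centralizer ((P : Subgroup G) : Set G) := by
  classical
  haveI := E.simple
  haveI := Fact.mk E.hp
  haveI := Fact.mk E.hq
  haveI := Fact.mk E.hs
  refine le_antisymm ?_ fun c hc =>
    mem_centralizer_singleton_iff.2 (mem_centralizer_iff.1 hc x hx).symm
  set H := centralizer ({x} : Set G)
  have hxp : ∃ k, orderOf x = p ^ k := by
    obtain ⟨k, hk⟩ := IsPGroup.iff_orderOf.1 P.2 ⟨x, hx⟩
    exact ⟨k, by rwa [orderOf_mk] at hk⟩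
  have hPH : (P : Subgroup G) ≤ H := fun y hy =>
    mem_centralizer_singleton_iff.2 (congrArg Subtype.val (hPab.is_comm.comm ⟨y, hy⟩ ⟨x, hx⟩))
  let PH : Sylow p H := P.subtype hPH
  have hPHab : ∀ a b : G, a ∈ (P : Subgroup G) → b ∈ (P : Subgroup G) → a * b = b * a :=
    fun a b ha hb => congrArg Subtype.val (hPab.is_comm.comm ⟨a, ha⟩ ⟨b, hb⟩)
  -- Burnside's complement in the centraliser
  have hN : normalizer ((PH : Subgroup H) : Set H) ≤ centralizer ((PH : Subgroup H) : Set H) := by
    intro n hn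
    have hnN : (n : G) ∈ normalizer ((P : Subgroup G) : Set G) := by
      rw [mem_normalizer_iff]
      intro y
      constructor
      · intro hy
        have := (mem_normalizer_iff.1 hn ⟨y, hPH hy⟩).1 (mem_subgroupOf.2 hy)
        exact mem_subgroupOf.1 this
      · intro hy
        have hy' : y ∈ H := by
          have := mul_mem (mul_mem (inv_mem n.2) (hPH hy)) n.2
          rwa [show (n : G)⁻¹ * (n * y * (n : G)⁻¹) * n = y by group] at this
        exact mem_subgroupOf.1 ((mem_normalizer_iff.1 hn ⟨y, hy'⟩).2 (mem_subgroupOf.2 hy))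
    have hnC := normalizer_inf_centralizer_le E.noncomm P hPab he hx hx1 ⟨hnN, n.2⟩
    refine mem_centralizer_iff.2 fun y hy => Subtype.ext ?_
    exact mem_centralizer_iff.1 hnC (y : G) (mem_subgroupOf.1 hy)
  set K := (MonoidHom.transferSylow PH hN).ker
  have hcompl : K.IsComplement' (PH : Subgroup H) :=
    MonoidHom.ker_transferSylow_isComplement' PH hN
  have hKp : ¬ p ∣ Nat.card K := by
    rw [← hcompl.index_eq_card]; exact PH.not_dvd_index
  -- no `q`-elements
  have hKs : ∀ k : H, k ∈ K → ∃ i, orderOf (k : G) = s ^ i := by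
    intro k hk
    have hd : orderOf (k : G) ∣ Nat.card K := by
      rw [orderOf_coe]; exact K.orderOf_dvd_natCard hk
    have h0 : orderOf (k : G) ≠ 0 := (orderOf_pos _).ne'
    refine ⟨_, Nat.eq_prime_pow_of_unique_prime_dvd h0 fun {d} hd' hdd => ?_⟩
    rcases E.dvd_cases hd' (hdd.trans (orderOf_dvd_natCard _)) with rfl | rfl | rfl
    · exact absurd (hdd.trans hd) hKp
    · exfalso
      have hy : orderOf ((k : G) ^ (orderOf (k : G) / d)) = d := orderOf_pow_orderOf_div h0 hdd
      exact E.no_mixed P hPab Q hQab hxp ⟨1, by rw [hy, pow_one]⟩ hx1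
        (fun e => by rw [e, orderOf_one] at hy; exact hd'.ne_one hy.symm)
        ((Commute.symm (mem_centralizer_singleton_iff.1 k.2)).pow_right _)
    · rfl
  -- every element of the complement centralises a conjugate of `P` by an element of it
  have hcov : ∀ k : H, k ∈ K → ∃ a : H, a ∈ K ∧
      ((a⁻¹ * k * a : H) : G) ∈ centralizer ((P : Subgroup G) : Set G) := by
    intro k hk
    by_cases hk1 : k = 1
    · exact ⟨1, one_mem _, by simp [hk1]⟩
    have hk1' : (k : G) ≠ 1 := fun e => hk1 (Subtype.ext e)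
    have hcomm : Commute x (k : G) := (mem_centralizer_singleton_iff.1 k.2 : Commute (k : G) x).symm
    have hcop := coprime_of_pow E.hp E.hs E.hps hxp (hKs k hk)
    have hxm := mem_zpowers_mul_left hcomm hcop
    have hkm := mem_zpowers_mul_right hcomm hcop
    rcases E.cent_cases (x * k) with ⟨P', hP'⟩ | hc | hc
    · have hxP' : x ∈ centralizer ((P' : Subgroup G) : Set G) := zpowers_le.2 hP' hxm
      have hkP' : (k : G) ∈ centralizer ((P' : Subgroup G) : Set G) := zpowers_le.2 hP' hkm
      let P'H : Sylow p H := P'.subtype (le_centralizer_of_mem hxP')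
      obtain ⟨b, hb⟩ := MulAction.exists_smul_eq H PH P'H
      obtain ⟨⟨⟨a, ha⟩, ⟨c, hc⟩⟩, hac⟩ := hcompl.2 b
      refine ⟨a, ha, mem_centralizer_iff.2 fun y hy => ?_⟩
      have hy' : b * ⟨y, hPH hy⟩ * b⁻¹ ∈ (P'H : Subgroup H) := by
        rw [← hb]
        exact ⟨⟨y, hPH hy⟩, mem_subgroupOf.2 hy, rfl⟩
      have h2 : ((b : G) * y * (b : G)⁻¹) * k = k * ((b : G) * y * (b : G)⁻¹) :=
        mem_centralizer_iff.1 hkP' _ (mem_subgroupOf.1 hy')
      have hb' : (b : G) = (a : G) * (c : G) := (congrArg Subtype.val hac).symm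
      have hcy : (c : G) * y * (c : G)⁻¹ = y := by
        rw [hPHab _ _ (mem_subgroupOf.1 hc) hy, mul_inv_cancel_right]
      rw [show (b : G) * y * (b : G)⁻¹ = (a : G) * ((c : G) * y * (c : G)⁻¹) * (a : G)⁻¹ by
        rw [hb']; group, hcy] at h2
      simp only [coe_mul, coe_inv]
      calc y * ((a : G)⁻¹ * k * a) = (a : G)⁻¹ * ((a : G) * y * (a : G)⁻¹ * k) * a := by group
        _ = (a : G)⁻¹ * (k * ((a : G) * y * (a : G)⁻¹)) * a := by rw [h2]
        _ = (a : G)⁻¹ * k * a * y := by group
    · exact (E.not_cent_two hx1 (cent_of_pElement hPab hxp) (hc.of_mem_zpowers hxm)).elim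
    · exact (E.rot.rot.not_cent_two hx1 (hc.of_mem_zpowers hxm) (cent_of_pElement hPab hxp)).elim
  set A : Subgroup K := ((centralizer ((P : Subgroup G) : Set G)).subgroupOf H).subgroupOf K
  have hKC : ∀ k : H, k ∈ K → (k : G) ∈ centralizer ((P : Subgroup G) : Set G) := by
    by_contra hcon
    push Not at hcon
    obtain ⟨k, hk, hkn⟩ := hcon
    have hA : A ≠ ⊤ := fun e => hkn (by
      have := e.ge (mem_top (⟨k, hk⟩ : K))
      exact this)
    obtain ⟨g, -, hg⟩ := CfsgLib.CAGroups.exists_not_conj_mem hA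
    obtain ⟨a, ha, hag⟩ := hcov g g.2
    refine hg ⟨a, ha⟩⁻¹ ?_
    simp only [A, mem_subgroupOf, inv_inv, coe_mul, coe_inv]
    simpa using hag
  intro y hy
  obtain ⟨⟨⟨a, ha⟩, ⟨c, hc⟩⟩, hac⟩ := hcompl.2 ⟨y, hy⟩
  have : y = (a : G) * (c : G) := (congrArg Subtype.val hac).symm
  rw [this]
  exact mul_mem (hKC a ha) (mem_centralizer_iff.2 fun z hz =>
    hPHab _ _ hz (mem_subgroupOf.1 hc))

end CfsgLib.TwoPrimeClasses
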