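import Cfsg.Agent.TwoPrimeClasses.SimpleCase
import Cfsg.Agent.Small.SylowArgs

/-!
# The action of the simple groups on their Sylow 2-subgroups

Five or nine points; each Sylow subgroup is regular outside at most two fixed points.
-/

set_option autoImplicit false
set_option linter.unusedSectionVars false
set_option linter.style.haveILetI false

namespace CfsgLib.TwoPrimeClasses

open Subgroup

universe u

variable {T : Type u} [Group T] [Finite T] [IsSimpleGroup T]

/-- The points fixed by a subgroup. -/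
def fixedPts (R : Subgroup T) : Set (Sylow 2 T) := {a | ∀ x ∈ R, x • a = a}

theorem SimpleData.prime_cases (D : SimpleData T) {r : ℕ} (hr : r.Prime) (h : r ∣ Nat.card T) :
    (Nat.card T = 60 ∧ (r = 2 ∨ r = 3 ∨ r = 5)) ∨ (Nat.card T = 504 ∧ (r = 2 ∨ r = 3 ∨ r = 7)) := by
  have e := fun {t : ℕ} (ht : t.Prime) (h : r ∣ t) => (Nat.prime_dvd_prime_iff_eq hr ht).1 h
  rcases D.card with hN | hN <;> rw [hN] at h
  · left
    rw [show 60 = 2 ^ 2 * (3 * 5) by norm_num] at h
    refine ⟨hN, ?_⟩
    rcases (Nat.Prime.dvd_mul hr).1 h with h | h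
    · exact Or.inl (e Nat.prime_two (hr.dvd_of_dvd_pow h))
    rcases (Nat.Prime.dvd_mul hr).1 h with h | h
    · exact Or.inr (Or.inl (e Nat.prime_three h))
    · exact Or.inr (Or.inr (e (by norm_num) h))
  · right
    rw [show 504 = 2 ^ 3 * (3 ^ 2 * 7) by norm_num] at h
    refine ⟨hN, ?_⟩
    rcases (Nat.Prime.dvd_mul hr).1 h with h | h
    · exact Or.inl (e Nat.prime_two (hr.dvd_of_dvd_pow h))
    rcases (Nat.Prime.dvd_mul hr).1 h with h | h
    · exact Or.inr (Or.inl (e Nat.prime_three (hr.dvd_of_dvd_pow h)))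
    · exact Or.inr (Or.inr (e (by norm_num) h))

theorem SimpleData.eq_of_fix_two (D : SimpleData T) {S S' : Sylow 2 T} {x : T}
    (hx : x ∈ (S : Subgroup T)) (hx1 : x ≠ 1) (hfix : x • S' = S') : S' = S := by
  haveI : Fact (Nat.Prime 2) := ⟨Nat.prime_two⟩
  have hN : x ∈ normalizer ((S' : Subgroup T) : Set T) := Sylow.smul_eq_iff_mem_normalizer.1 hfix
  have hpg : IsPGroup 2 (zpowers x) := by
    obtain ⟨k, hk⟩ := IsPGroup.iff_orderOf.1 S.2 ⟨x, hx⟩
    exact IsPGroup.of_card (n := k) (by rw [Nat.card_zpowers, ← orderOf_mk x hx, hk])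
  have hx' : x ∈ (S' : Subgroup T) :=
    ((hpg.inf_normalizer_sylow S').le ⟨mem_zpowers x, hN⟩).2
  exact Sylow.ext ((D.cent 2 Nat.prime_two S' x hx' hx1).symm.trans
    (D.cent 2 Nat.prime_two S x hx hx1))

theorem SimpleData.card_points (D : SimpleData T) :
    (Nat.card T = 60 ∧ Nat.card (Sylow 2 T) = 5) ∨ (Nat.card T = 504 ∧ Nat.card (Sylow 2 T) = 9) := by
  classical
  haveI : Fact (Nat.Prime 2) := ⟨Nat.prime_two⟩
  obtain ⟨S⟩ : Nonempty (Sylow 2 T) := inferInstance
  have hdvd : Nat.card (S : Subgroup T) ∣ Nat.card (Sylow 2 T) - 1 := by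
    have h := card_dvd_ncard_of_free (H := (S : Subgroup T)) ({S}ᶜ : Set (Sylow 2 T))
      (fun x a ha hxa => ha ?_) fun x a ha hx => ?_
    · rwa [Set.ncard_compl, Set.ncard_singleton] at h
    · rw [Set.mem_singleton_iff] at hxa ⊢
      rw [← inv_smul_smul x a, hxa]
      exact Sylow.smul_eq_iff_mem_normalizer.2 (le_normalizer (inv_mem x.2))
    · by_contra hx1
      exact ha (D.eq_of_fix_two x.2 (fun e => hx1 (Subtype.ext e)) hx)
  have hidx : Nat.card (Sylow 2 T) ∣ (S : Subgroup T).index := S.card_dvd_index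
  have hne : Nat.card (Sylow 2 T) ≠ 1 := by
    intro h1
    rw [S.card_eq_index_normalizer, index_eq_one] at h1
    haveI : (S : Subgroup T).Normal := normalizer_eq_top_iff.1 h1
    have h2 : 2 ∣ Nat.card T := by rcases D.card with e | e <;> rw [e] <;> norm_num
    rcases (inferInstance : (S : Subgroup T).Normal).eq_bot_or_eq_top with e | e
    · exact S.ne_bot_of_dvd_card h2 e
    · obtain ⟨k, hk⟩ := IsPGroup.iff_card.1 S.2
      rw [e, card_top] at hk
      have h3 : 3 ∣ Nat.card T := by rcases D.card with e | e <;> rw [e] <;> norm_num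
      rw [hk] at h3
      have := (Nat.prime_dvd_prime_iff_eq Nat.prime_three Nat.prime_two).1
        (Nat.prime_three.dvd_of_dvd_pow h3)
      omega
  have hmul := card_mul_index (S : Subgroup T)
  rcases D.card with hN | hN
  · have hS : Nat.card (S : Subgroup T) = 2 ^ 2 :=
      CfsgLib.Small.card_sylow_eq (k := 2) (m := 15) (by rw [hN]; norm_num) (by norm_num) S
    rw [hS, hN] at hmul
    rw [hS] at hdvd
    have hi : (S : Subgroup T).index = 15 := by omega
    rw [hi] at hidx
    have hle := Nat.le_of_dvd (by norm_num) hidx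
    left
    refine ⟨hN, ?_⟩
    generalize Nat.card (Sylow 2 T) = n at *
    interval_cases n <;> omega
  · have hS : Nat.card (S : Subgroup T) = 2 ^ 3 :=
      CfsgLib.Small.card_sylow_eq (k := 3) (m := 63) (by rw [hN]; norm_num) (by norm_num) S
    rw [hS, hN] at hmul
    rw [hS] at hdvd
    have hi : (S : Subgroup T).index = 63 := by omega
    rw [hi] at hidx
    have hle := Nat.le_of_dvd (by norm_num) hidx
    right
    refine ⟨hN, ?_⟩
    generalize Nat.card (Sylow 2 T) = n at *
    interval_cases n <;> omega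

theorem SimpleData.eq_one_of_fix_all (D : SimpleData T) {x : T}
    (hx : ∀ a : Sylow 2 T, x • a = a) : x = 1 := by
  haveI : Fact (Nat.Prime 2) := ⟨Nat.prime_two⟩
  have hn1 : 1 < Nat.card (Sylow 2 T) := by
    rcases D.card_points with ⟨-, e⟩ | ⟨-, e⟩ <;> rw [e] <;> norm_num
  have hker : (MulAction.toPermHom T (Sylow 2 T)).ker = ⊥ := by
    refine (MonoidHom.normal_ker _).eq_bot_or_eq_top.resolve_right fun h => ?_
    obtain ⟨a, b, hab⟩ := (Finite.one_lt_card_iff_nontrivial.1 hn1).exists_pair_ne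
    obtain ⟨t, ht⟩ := MulAction.exists_smul_eq T a b
    have h1 : MulAction.toPermHom T (Sylow 2 T) t = 1 := MonoidHom.mem_ker.1 (h ▸ mem_top t)
    exact hab ((Equiv.Perm.ext_iff.1 h1 a).symm.trans ht)
  have h1 : x ∈ (MulAction.toPermHom T (Sylow 2 T)).ker :=
    MonoidHom.mem_ker.2 (Equiv.Perm.ext fun a => hx a)
  rwa [hker, mem_bot] at h1

/-- Outside its fixed points a Sylow subgroup is regular. -/
theorem SimpleData.fixed_data (D : SimpleData T) {r : ℕ} [hrF : Fact r.Prime]
    (hr : r ∣ Nat.card T) (R : Sylow r T) :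
    (∀ x ∈ (R : Subgroup T), x ≠ 1 → ∀ a, x • a = a → a ∈ fixedPts (R : Subgroup T)) ∧
      ((fixedPts (R : Subgroup T))ᶜ).ncard = Nat.card (R : Subgroup T) ∧
      (fixedPts (R : Subgroup T)).ncard ≤ 2 := by
  classical
  haveI : Fact (Nat.Prime 2) := ⟨Nat.prime_two⟩
  -- the free action
  have hfree : ∀ x ∈ (R : Subgroup T), x ≠ 1 → ∀ a, x • a = a → a ∈ fixedPts (R : Subgroup T) := by
    intro x hx hx1 a ha y hy
    by_cases hr2 : r = 2
    · subst hr2
      obtain rfl := D.eq_of_fix_two hx hx1 ha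
      exact Sylow.smul_eq_iff_mem_normalizer.2 (le_normalizer hy)
    have hdvd : orderOf x ∣ Nat.card (R : Subgroup T) := by
      rw [← orderOf_mk x hx]; exact orderOf_dvd_natCard _
    by_cases hprime : (Nat.card (R : Subgroup T)).Prime
    · haveI : Fact (Nat.card (R : Subgroup T)).Prime := ⟨hprime⟩
      have hmem := mem_zpowers_of_prime_card (p := Nat.card (R : Subgroup T)) rfl
        (g' := (⟨y, hy⟩ : (R : Subgroup T)))
        (fun e => hx1 (congrArg Subtype.val e) : (⟨x, hx⟩ : (R : Subgroup T)) ≠ 1)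
      obtain ⟨k, hk⟩ := mem_zpowers_iff.1 hmem
      have hk' : x ^ k = y := congrArg Subtype.val hk
      have hst : x ∈ MulAction.stabilizer T a := ha
      exact hk' ▸ zpow_mem hst k
    · -- nine points and order nine
      exfalso
      have hcases := D.prime_cases hrF.out hr
      have hNfix : orderOf x ∣ Nat.card (normalizer ((a : Subgroup T) : Set T)) := by
        rw [← orderOf_mk x (Sylow.smul_eq_iff_mem_normalizer.1 ha)]
        exact orderOf_dvd_natCard _
      have hmul : Nat.card (normalizer ((a : Subgroup T) : Set T)) * Nat.card (Sylow 2 T) =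
          Nat.card T := by
        rw [a.card_eq_index_normalizer]; exact card_mul_index _
      rcases hcases with ⟨hN, rfl | rfl | rfl⟩ | ⟨hN, rfl | rfl | rfl⟩
      · exact hr2 rfl
      · exact hprime (by
          rw [CfsgLib.Small.card_sylow_eq (k := 1) (m := 20) (by rw [hN]; norm_num) (by norm_num) R]
          norm_num)
      · exact hprime (by
          rw [CfsgLib.Small.card_sylow_eq (k := 1) (m := 12) (by rw [hN]; norm_num) (by norm_num) R]
          norm_num)
      · exact hr2 rfl
      · have hn : Nat.card (Sylow 2 T) = 9 := by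
          rcases D.card_points with ⟨e, -⟩ | ⟨-, e⟩
          · omega
          · exact e
        rw [hn, hN] at hmul
        have h56 : Nat.card (normalizer ((a : Subgroup T) : Set T)) = 56 := by omega
        rw [h56] at hNfix
        rw [CfsgLib.Small.card_sylow_eq (k := 2) (m := 56) (by rw [hN]; norm_num) (by norm_num) R]
          at hdvd
        have h1 : orderOf x ∣ Nat.gcd 56 (3 ^ 2) := Nat.dvd_gcd hNfix hdvd
        rw [show Nat.gcd 56 (3 ^ 2) = 1 by decide] at h1
        exact hx1 (orderOf_eq_one_iff.1 (Nat.eq_one_of_dvd_one h1))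
      · exact hprime (by
          rw [CfsgLib.Small.card_sylow_eq (k := 1) (m := 72) (by rw [hN]; norm_num) (by norm_num) R]
          norm_num)
  have hdiv : Nat.card (R : Subgroup T) ∣ ((fixedPts (R : Subgroup T))ᶜ).ncard := by
    refine card_dvd_ncard_of_free _ (fun x a ha hxa => ha ?_) fun x a ha hx => ?_
    · intro y hy
      have h1 := hxa (x⁻¹ : (R : Subgroup T)) (SetLike.coe_mem _)
      change (x⁻¹ : (R : Subgroup T)) • x • a = x • a at h1
      rw [inv_smul_smul] at h1
      have h2 := hxa y hy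
      rw [← h1] at h2
      exact h2
    · by_contra hx1
      exact ha (hfree x x.2 (fun e => hx1 (Subtype.ext e)) a hx)
  have hpos : ((fixedPts (R : Subgroup T))ᶜ).ncard ≠ 0 := by
    intro h0
    rw [Set.ncard_eq_zero] at h0
    obtain ⟨x, hx, hx1⟩ := (Subgroup.bot_or_exists_ne_one (R : Subgroup T)).resolve_left
      (R.ne_bot_of_dvd_card hr)
    refine hx1 (D.eq_one_of_fix_all fun a => ?_)
    have : a ∈ fixedPts (R : Subgroup T) := by
      by_contra hc
      exact (Set.ext_iff.1 h0 a).1 hc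
    exact this x hx
  have hsum := Set.ncard_add_ncard_compl (fixedPts (R : Subgroup T))
  refine ⟨hfree, ?_⟩
  rcases D.prime_cases hrF.out hr with ⟨hN, rfl | rfl | rfl⟩ | ⟨hN, rfl | rfl | rfl⟩
  all_goals rcases D.card_points with ⟨hN', hn⟩ | ⟨hN', hn⟩ <;> try omega
  · rw [CfsgLib.Small.card_sylow_eq (k := 2) (m := 15) (by rw [hN]; norm_num) (by norm_num) R] at hdiv ⊢
    omega
  · rw [CfsgLib.Small.card_sylow_eq (k := 1) (m := 20) (by rw [hN]; norm_num) (by norm_num) R] at hdiv ⊢
    omega
  · rw [CfsgLib.Small.card_sylow_eq (k := 1) (m := 12) (by rw [hN]; norm_num) (by norm_num) R] at hdiv ⊢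
    omega
  · rw [CfsgLib.Small.card_sylow_eq (k := 3) (m := 63) (by rw [hN]; norm_num) (by norm_num) R] at hdiv ⊢
    omega
  · rw [CfsgLib.Small.card_sylow_eq (k := 2) (m := 56) (by rw [hN]; norm_num) (by norm_num) R] at hdiv ⊢
    omega
  · rw [CfsgLib.Small.card_sylow_eq (k := 1) (m := 72) (by rw [hN]; norm_num) (by norm_num) R] at hdiv ⊢
    omega

/-- A non-trivial element fixes at most two points. -/
theorem SimpleData.card_fix_le (D : SimpleData T) {t : T} (ht : t ≠ 1) :
    {a : Sylow 2 T | t • a = a}.ncard ≤ 2 := by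
  obtain ⟨r, hr, hrd⟩ := Nat.exists_prime_and_dvd (fun e => ht (orderOf_eq_one_iff.1 e))
  haveI := Fact.mk hr
  set x := t ^ (orderOf t / r)
  have hx : orderOf x = r := orderOf_pow_orderOf_div (orderOf_pos t).ne' hrd
  obtain ⟨R, hR⟩ := (IsPGroup.of_card (n := 1) (by rw [Nat.card_zpowers, hx, pow_one]) :
    IsPGroup r (zpowers x)).exists_le_sylow
  have h := D.fixed_data (hrd.trans (orderOf_dvd_natCard t)) R
  refine le_trans (Set.ncard_le_ncard fun a (ha : t • a = a) => ?_) h.2.2
  refine h.1 x (hR (mem_zpowers x)) (fun e => by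
    rw [e, orderOf_one] at hx; exact hr.ne_one hx.symm) a ?_
  exact pow_mem (show t ∈ MulAction.stabilizer T a from ha) _

end CfsgLib.TwoPrimeClasses
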