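import Cfsg.Agent.TwoPrimeClasses.Local

/-!
# An abelian Sylow subgroup with automiser of order two and trivially intersecting centralisers

The projection of the centraliser onto the Sylow subgroup and the control of conjugation of the
elements with non-trivial projection.
-/

set_option autoImplicit false
set_option linter.unusedSectionVars false
set_option linter.style.haveILetI false

namespace CfsgLib.TwoPrimeClasses

open Subgroup

universe u

variable {G : Type u} [Group G] [Finite G] {p : ℕ} [Fact p.Prime]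

/-- The hypotheses on the Sylow subgroup. -/
structure TICtx (P : Sylow p G) : Prop where
  simple : IsSimpleGroup G
  noncomm : ¬ IsMulCommutative G
  ab : IsMulCommutative (P : Subgroup G)
  auto : autoOrder P = 2
  ne_two : p ≠ 2
  cent : ∀ x ∈ (P : Subgroup G), x ≠ 1 →
    centralizer ({x} : Set G) = centralizer ((P : Subgroup G) : Set G)

/-- The centraliser of the Sylow subgroup. -/
abbrev cP (P : Sylow p G) : Subgroup G := centralizer ((P : Subgroup G) : Set G)

/-- The normaliser of the Sylow subgroup. -/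
abbrev nP (P : Sylow p G) : Subgroup G := normalizer ((P : Subgroup G) : Set G)

/-- The index of the Sylow subgroup in its centraliser. -/
noncomputable def resOrder (P : Sylow p G) : ℕ := (P : Subgroup G).relIndex (cP P)

namespace TICtx

variable {P : Sylow p G} (T : TICtx P)
include T

theorem le_cP : (P : Subgroup G) ≤ cP P := fun x hx =>
  mem_centralizer_iff.2 fun y hy => congrArg Subtype.val (T.ab.is_comm.comm ⟨y, hy⟩ ⟨x, hx⟩)

theorem cP_le_nP : cP P ≤ nP P := centralizer_le_normalizer _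

theorem card_nP : Nat.card (nP P) = 2 * Nat.card (cP P) := by
  have h := ((cP P).subgroupOf (nP P)).card_mul_index
  rw [Nat.card_congr (subgroupOfEquivOfLe T.cP_le_nP).toEquiv,
    show ((cP P).subgroupOf (nP P)).index = 2 from T.auto] at h
  omega

theorem mul_mem_cP {m n : G} (hm : m ∈ nP P) (hm' : m ∉ cP P) (hn : n ∈ nP P) (hn' : n ∉ cP P) :
    m * n ∈ cP P := by
  have h2 : ((cP P).subgroupOf (nP P)).index = 2 := T.auto
  have := (mul_mem_iff_of_index_two h2 (a := ⟨m, hm⟩) (b := ⟨n, hn⟩)).2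
    (iff_of_false (fun h => hm' (mem_subgroupOf.1 h)) fun h => hn' (mem_subgroupOf.1 h))
  exact mem_subgroupOf.1 this

/-- Outside the centraliser the normaliser inverts the Sylow subgroup. -/
theorem inverts {n y : G} (hn : n ∈ nP P) (hn' : n ∉ cP P) (hy : y ∈ (P : Subgroup G)) :
    n * y * n⁻¹ = y⁻¹ := by
  haveI := T.simple
  have hy' : n * y * n⁻¹ ∈ (P : Subgroup G) := (mem_normalizer_iff.1 hn y).1 hy
  set w := y * (n * y * n⁻¹)
  have hw : w ∈ (P : Subgroup G) := mul_mem hy hy'
  have hnn : (n * n) * y * (n * n)⁻¹ = y := by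
    rw [← mem_centralizer_iff.1 (T.mul_mem_cP hn hn' hn hn') y hy, mul_inv_cancel_right]
  have hwn : n * w * n⁻¹ = w := by
    calc n * w * n⁻¹ = (n * y * n⁻¹) * ((n * n) * y * (n * n)⁻¹) := by
          simp only [w]; group
      _ = (n * y * n⁻¹) * y := by rw [hnn]
      _ = w := congrArg Subtype.val (T.ab.is_comm.comm ⟨_, hy'⟩ ⟨y, hy⟩)
  by_contra hne
  have hw1 : w ≠ 1 := fun h => hne (eq_inv_of_mul_eq_one_right h)
  refine hn' (normalizer_inf_centralizer_le T.noncomm P T.ab (by rw [T.auto]; exact Nat.prime_two)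
    hw hw1 ⟨hn, mem_centralizer_singleton_iff.2 (mul_inv_eq_iff_eq_mul.1 hwn)⟩)

/-- The Sylow subgroup, inside its centraliser. -/
noncomputable def sylC : Sylow p (cP P) := P.subtype T.le_cP

theorem normalizer_sylC_le :
    normalizer ((T.sylC : Subgroup (cP P)) : Set (cP P)) ≤
      centralizer ((T.sylC : Subgroup (cP P)) : Set (cP P)) := fun n _ =>
  mem_centralizer_iff.2 fun y hy => Subtype.ext
    (mem_centralizer_iff.1 n.2 (y : G) (mem_subgroupOf.1 hy))

/-- The projection of the centraliser onto the Sylow subgroup. -/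
noncomputable def proj : cP P →* (P : Subgroup G) :=
  ((MulEquiv.subgroupCongr (show (T.sylC : Subgroup (cP P)) = (P : Subgroup G).subgroupOf (cP P)
      from rfl)).trans (subgroupOfEquivOfLe T.le_cP)).toMonoidHom.comp
    (MonoidHom.transferSylow T.sylC T.normalizer_sylC_le)

theorem card_cP : Nat.card (cP P) = Nat.card (P : Subgroup G) * (resOrder P) := by
  rw [resOrder, ← Nat.card_congr (subgroupOfEquivOfLe T.le_cP).toEquiv, relIndex, card_mul_index]

theorem coprime_resOrder : (Nat.card (P : Subgroup G)).Coprime (resOrder P) := by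
  obtain ⟨k, hk⟩ := IsPGroup.iff_card.1 P.2
  rw [hk]
  exact Nat.Coprime.pow_left k ((Fact.out : p.Prime).coprime_iff_not_dvd.2 T.sylC.not_dvd_index)

theorem resOrder_pos : 0 < (resOrder P) := Nat.pos_of_ne_zero index_ne_zero_of_finite

theorem odd_card : Odd (Nat.card (P : Subgroup G)) := by
  obtain ⟨k, hk⟩ := IsPGroup.iff_card.1 P.2
  rw [hk]
  exact ((Fact.out : p.Prime).odd_of_ne_two T.ne_two).pow

theorem proj_mem {x : G} (hx : x ∈ (P : Subgroup G)) :
    (T.proj ⟨x, T.le_cP hx⟩ : G) = x ^ (resOrder P) := by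
  show (((MonoidHom.transferSylow T.sylC T.normalizer_sylC_le ⟨x, T.le_cP hx⟩ :
    (T.sylC : Subgroup (cP P))) : cP P) : G) = _
  rw [MonoidHom.transferSylow_eq_pow T.sylC T.normalizer_sylC_le (⟨x, T.le_cP hx⟩ : cP P)
    (mem_subgroupOf.2 hx)]
  rfl

theorem pow_res_injective {a b : (P : Subgroup G)} (h : a ^ (resOrder P) = b ^ (resOrder P)) : a = b :=
  (powCoprime T.coprime_resOrder).injective h

theorem pow_mem_sylow (y : cP P) : (y : G) ^ (resOrder P) ∈ (P : Subgroup G) := by
  haveI : ((T.sylC : Subgroup (cP P))).Normal := ⟨fun n hn g => by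
    have h := mem_centralizer_iff.1 g.2 (n : G) (mem_subgroupOf.1 hn)
    have : g * n * g⁻¹ = n := Subtype.ext (by
      show (g : G) * n * (g : G)⁻¹ = n
      rw [← h, mul_inv_cancel_right])
    rwa [this]⟩
  exact mem_subgroupOf.1 ((T.sylC : Subgroup (cP P)).pow_index_mem y)

theorem proj_pow (y : cP P) :
    ((T.proj y ^ (resOrder P) : (P : Subgroup G)) : G) = ((y : G) ^ (resOrder P)) ^ (resOrder P) := by
  rw [← map_pow, ← T.proj_mem (T.pow_mem_sylow y)]
  rfl

theorem proj_bijective : Function.Bijective fun x : (P : Subgroup G) => T.proj ⟨x, T.le_cP x.2⟩ := by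
  refine Finite.injective_iff_bijective.1 fun a b hab => T.pow_res_injective (Subtype.ext ?_)
  have := congrArg Subtype.val hab
  simp only [T.proj_mem a.2, T.proj_mem b.2] at this
  simpa using this

theorem proj_ne_one_iff (y : cP P) : T.proj y ≠ 1 ↔ (y : G) ^ (resOrder P) ≠ 1 := by
  refine not_congr ⟨fun h => ?_, fun h => T.pow_res_injective (Subtype.ext ?_)⟩
  · have e := T.proj_pow y
    rw [h, one_pow, OneMemClass.coe_one] at e
    exact congrArg Subtype.val (T.pow_res_injective (a := ⟨_, T.pow_mem_sylow y⟩) (b := 1)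
      (Subtype.ext (by simpa using e.symm)))
  · rw [T.proj_pow, h, one_pow, one_pow, OneMemClass.coe_one]

/-- The normaliser permutes the centraliser and inverts projections outside it. -/
theorem conj_mem {n : G} (hn : n ∈ nP P) (y : cP P) : n * (y : G) * n⁻¹ ∈ cP P := by
  have h := conj_mem_centralizer n y.2
  have e : ((P : Subgroup G).map (MulAut.conj n).toMonoidHom) = (P : Subgroup G) :=
    (mem_normalizer_iff_map_conj_eq).1 hn
  rwa [e] at h

theorem proj_conj {n : G} (hn : n ∈ nP P) (hn' : n ∉ cP P) (y : cP P) :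
    T.proj ⟨n * (y : G) * n⁻¹, T.conj_mem hn y⟩ = (T.proj y)⁻¹ := by
  refine T.pow_res_injective (Subtype.ext ?_)
  rw [T.proj_pow, inv_pow, InvMemClass.coe_inv, T.proj_pow, conj_pow,
    T.inverts hn hn' (T.pow_mem_sylow y), inv_pow]

theorem proj_conj_cP {c : G} (hc : c ∈ cP P) (y : cP P) :
    T.proj ⟨c * (y : G) * c⁻¹, T.conj_mem (T.cP_le_nP hc) y⟩ = T.proj y := by
  have e : (⟨c * (y : G) * c⁻¹, T.conj_mem (T.cP_le_nP hc) y⟩ : cP P) =
      ⟨c, hc⟩ * y * ⟨c, hc⟩⁻¹ := rfl
  rw [e, map_mul, map_mul, map_inv, T.ab.is_comm.comm (T.proj ⟨c, hc⟩), mul_inv_cancel_right]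

/-- Conjugation of elements with non-trivial projection is controlled by the normaliser. -/
theorem mem_nP_of_conj {g : G} (y : cP P) (hy : T.proj y ≠ 1)
    (hg : g⁻¹ * (y : G) * g ∈ cP P) : g ∈ nP P := by
  rw [T.proj_ne_one_iff] at hy
  set w := (y : G) ^ (resOrder P)
  have hw : w ∈ (P : Subgroup G) := T.pow_mem_sylow y
  have hw' : g⁻¹ * w * g ∈ (P : Subgroup G) := by
    have := T.pow_mem_sylow ⟨_, hg⟩
    simp only at this
    rw [show g⁻¹ * (y : G) * g = g⁻¹ * (y : G) * (g⁻¹)⁻¹ by group, conj_pow, inv_inv] at this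
    exact this
  have hw1 : g⁻¹ * w * g ≠ 1 := fun h => hy (by
    calc w = g * (g⁻¹ * w * g) * g⁻¹ := by group
      _ = 1 := by rw [h]; group)
  -- conjugates of elements of `P` lie in `P`
  rw [mem_normalizer_iff_map_conj_eq]
  refine eq_of_le_of_card_ge ?_ (le_of_eq (card_map_of_injective (MulAut.conj g).injective).symm)
  rintro _ ⟨x, hx, rfl⟩
  show g * x * g⁻¹ ∈ (P : Subgroup G)
  have hxw : g * x * g⁻¹ ∈ cP P := by
    show g * x * g⁻¹ ∈ centralizer ((P : Subgroup G) : Set G)
    rw [← T.cent w hw hy, mem_centralizer_singleton_iff]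
    have h2 : x * (g⁻¹ * w * g) = g⁻¹ * w * g * x :=
      congrArg Subtype.val (T.ab.is_comm.comm ⟨x, hx⟩ ⟨_, hw'⟩)
    calc g * x * g⁻¹ * w = g * (x * (g⁻¹ * w * g)) * g⁻¹ := by group
      _ = g * (g⁻¹ * w * g * x) * g⁻¹ := by rw [h2]
      _ = w * (g * x * g⁻¹) := by group
  obtain ⟨k, hk⟩ := IsPGroup.iff_orderOf.1 P.2 ⟨x, hx⟩
  rw [orderOf_mk] at hk
  have ho : orderOf (g * x * g⁻¹) = p ^ k := by
    rw [← hk]; exact MulEquiv.orderOf_eq (MulAut.conj g) x
  have hpg : IsPGroup p (zpowers (g * x * g⁻¹)) :=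
    IsPGroup.of_card (n := k) (by rw [Nat.card_zpowers, ho])
  obtain ⟨R, hR⟩ := (hpg.comap_subtype (K := cP P)).exists_le_sylow
  obtain ⟨c, hc⟩ := MulAction.exists_smul_eq (cP P) T.sylC R
  have hmem : (⟨_, hxw⟩ : cP P) ∈ (R : Subgroup (cP P)) := hR (mem_subgroupOf.2 (mem_zpowers _))
  rw [← hc] at hmem
  obtain ⟨d, hd, hdd⟩ := hmem
  have hd' : c * d * c⁻¹ = d := Subtype.ext (by
    show (c : G) * d * (c : G)⁻¹ = d
    rw [← mem_centralizer_iff.1 c.2 (d : G) (mem_subgroupOf.1 hd), mul_inv_cancel_right])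
  have he : d = (⟨_, hxw⟩ : cP P) := by
    rw [← hdd]
    exact hd'.symm
  have := mem_subgroupOf.1 hd
  rw [he] at this
  exact this

end TICtx

end CfsgLib.TwoPrimeClasses
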