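import Cfsg.Agent.TwoPrimeClasses.CharTools
import Cfsg.Agent.TwoPrimeClasses.CATypeCase
import Cfsg.Agent.Small.FixedPoints

/-!
# The simple groups with at most two primes in every class size

The order is 60 or 504 and commuting is transitive.
-/

set_option autoImplicit false
set_option linter.unusedSectionVars false
set_option linter.style.haveILetI false

namespace CfsgLib.TwoPrimeClasses

open Subgroup CfsgLib.CAGroups

universe u

variable {G : Type u} [Group G]

section Two

variable [Finite G] {p q s : ℕ}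

theorem pow_coprime_sylow {r : ℕ} [Fact r.Prime] (R : Sylow r G) {t : ℕ} (ht : t.Prime)
    (htr : t ≠ r) (htg : t ∣ Nat.card G) : t ∣ (R : Subgroup G).index := by
  rw [← card_mul_index (R : Subgroup G)] at htg
  refine ((Nat.Prime.dvd_mul ht).1 htg).resolve_left fun h => ?_
  obtain ⟨k, hk⟩ := IsPGroup.iff_card.1 R.2
  rw [hk] at h
  exact htr ((Nat.prime_dvd_prime_iff_eq ht Fact.out).1 (ht.dvd_of_dvd_pow h))

/-- The centraliser of a central element of the third Sylow subgroup is that subgroup. -/
theorem Setup.centralizer_central (E : Setup G p q s) (P : Sylow p G)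
    (hPab : IsMulCommutative (P : Subgroup G)) (Q : Sylow q G)
    (hQab : IsMulCommutative (Q : Subgroup G)) (S : Sylow s G) {z : G}
    (hzS : z ∈ (S : Subgroup G)) (hzc : z ∈ centralizer ((S : Subgroup G) : Set G)) (hz1 : z ≠ 1) :
    centralizer ({z} : Set G) = (S : Subgroup G) := by
  have key : ∀ {a b : ℕ}, Setup G a b s → ∀ A : Sylow a G, IsMulCommutative (A : Subgroup G) →
      ∀ y : G, orderOf y = a → Commute z y → False := by
    intro a b E' A hA y hy hzy
    haveI := Fact.mk E'.hp
    haveI := Fact.mk E'.hq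
    haveI := Fact.mk E'.hs
    have hy1 : y ≠ 1 := fun e => by
      rw [e, orderOf_one] at hy; exact E'.hp.ne_one hy.symm
    obtain ⟨k, hk⟩ := IsPGroup.iff_orderOf.1 S.2 ⟨z, hzS⟩
    rw [orderOf_mk] at hk
    have hcop : (orderOf z).Coprime (orderOf y) :=
      coprime_of_pow E'.hs E'.hp E'.hps.symm ⟨k, hk⟩ ⟨1, by rw [hy, pow_one]⟩
    have hzm := mem_zpowers_mul_left hzy hcop
    have hym := mem_zpowers_mul_right hzy hcop
    have hy' : Cent a y := cent_of_pElement hA ⟨1, by rw [hy, pow_one]⟩
    rcases E'.cent_cases (z * y) with h | h | h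
    · exact E'.rot.rot.not_cent_two hz1 ⟨S, hzc⟩ (h.of_mem_zpowers hzm)
    · exact E'.not_cent_two hy1 hy' (h.of_mem_zpowers hym)
    · exact E'.rot.rot.not_cent_two hy1 (h.of_mem_zpowers hym) hy'
  haveI := Fact.mk E.hs
  refine S.3 (IsPGroup.iff_orderOf.2 fun y => ⟨(orderOf y).primeFactorsList.length,
    Nat.eq_prime_pow_of_unique_prime_dvd (orderOf_pos y).ne' fun {d} hd hdd => ?_⟩)
    (le_centralizer_of_mem hzc)
  have ho : orderOf ((y : G) ^ (orderOf (y : G) / d)) = d :=
    orderOf_pow_orderOf_div (orderOf_pos _).ne' (by rwa [orderOf_coe])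
  have hzy : Commute z ((y : G) ^ (orderOf (y : G) / d)) :=
    (Commute.symm (mem_centralizer_singleton_iff.1 y.2)).pow_right _
  rcases E.dvd_cases hd (hdd.trans ((orderOf_dvd_natCard y).trans (card_subgroup_dvd_card _)))
    with rfl | rfl | rfl
  · exact (key E P hPab _ ho hzy).elim
  · exact (key E.swap Q hQab _ ho hzy).elim
  · rfl

theorem Setup.exists_central (E : Setup G p q s) (S : Sylow s G) :
    ∃ z : G, z ∈ (S : Subgroup G) ∧ z ∈ centralizer ((S : Subgroup G) : Set G) ∧ z ≠ 1 := by
  haveI := Fact.mk E.hs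
  haveI : Nontrivial (S : Subgroup G) :=
    (nontrivial_iff_ne_bot _).2 (S.ne_bot_of_dvd_card E.rot.rot.dvd)
  haveI := S.2.center_nontrivial
  obtain ⟨⟨z, hz⟩, hz1⟩ := exists_ne (1 : center (S : Subgroup G))
  exact ⟨z, z.2, mem_centralizer_iff.2 fun y hy =>
      congrArg Subtype.val (mem_center_iff.1 hz ⟨y, hy⟩),
    fun e => hz1 (Subtype.ext (Subtype.ext e))⟩

variable (E : Setup G p q s) (P : Sylow p G) (hPab : IsMulCommutative (P : Subgroup G))
  (Q : Sylow q G) (hQab : IsMulCommutative (Q : Subgroup G)) (S : Sylow s G)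
include E hPab hQab

/-- No element of `S` outside its centre has a non-trivial central power. -/
theorem Setup.no_central_power {u : (S : Subgroup G)} (hu : u ∉ center (S : Subgroup G)) {k : ℕ}
    (hk : u ^ k ∈ center (S : Subgroup G)) : u ^ k = 1 := by
  haveI := Fact.mk E.hp
  haveI := Fact.mk E.hq
  haveI := Fact.mk E.hs
  by_contra hne
  have hCw := E.centralizer_central P hPab Q hQab S (SetLike.coe_mem (u ^ k))
    (mem_centralizer_iff.2 fun y hy => congrArg Subtype.val (mem_center_iff.1 hk ⟨y, hy⟩))
    (fun e => hne (Subtype.ext e))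
  set C := centralizer ({(u : G)} : Set G) with hC
  have hle : C ≤ (S : Subgroup G) := by
    rw [← hCw]
    intro y hy
    rw [mem_centralizer_singleton_iff]
    exact (Commute.pow_right (mem_centralizer_singleton_iff.1 hy : Commute y (u : G)) k).eq
  have hidx : C.relIndex (S : Subgroup G) * (S : Subgroup G).index = C.index :=
    relIndex_mul_index hle
  have hne' : C.relIndex (S : Subgroup G) ≠ 1 := fun e => hu (mem_center_iff.2 fun y =>
    Subtype.ext (mem_centralizer_singleton_iff.1 (relIndex_eq_one.1 e y.2)))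
  obtain ⟨m, hm⟩ := IsPGroup.iff_card.1 S.2
  obtain ⟨i, -, hi⟩ := (Nat.dvd_prime_pow E.hs).1 (hm ▸ relIndex_dvd_card C (S : Subgroup G))
  have hs : s ∣ C.index := by
    rw [← hidx, hi]
    rcases Nat.eq_zero_or_pos i with rfl | hi0
    · exact absurd (by rw [hi, pow_zero]) hne'
    · exact Dvd.dvd.mul_right (dvd_pow_self s hi0.ne') _
  exact E.h.not_three (u : G) E.hp E.hq E.hs E.hpq E.hps E.hqs
    ((pow_coprime_sylow S E.hp E.hps E.dvd).trans ⟨_, hidx.symm.trans (mul_comm _ _)⟩)
    ((pow_coprime_sylow S E.hq E.hqs E.swap.dvd).trans ⟨_, hidx.symm.trans (mul_comm _ _)⟩) hs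

theorem Setup.card_eq : Nat.card G =
    Nat.card (P : Subgroup G) * Nat.card (Q : Subgroup G) * Nat.card (S : Subgroup G) := by
  haveI := Fact.mk E.hp
  haveI := Fact.mk E.hq
  haveI := Fact.mk E.hs
  rw [P.card_eq_multiplicity, Q.card_eq_multiplicity, S.card_eq_multiplicity]
  conv_lhs => rw [← Nat.prod_factorization_pow_eq_self (Nat.card_pos (α := G)).ne']
  rw [Finsupp.prod, Nat.support_factorization, E.primes,
    Finset.prod_insert (by simp [E.hpq, E.hps]), Finset.prod_pair E.hqs, mul_assoc]

end Two

section Even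

variable {p q : ℕ} [Fact p.Prime] [Fact q.Prime]

theorem Setup.false_of_autoOrder_three [Finite G] (E : Setup G p q 2) (P : Sylow p G)
    (hPab : IsMulCommutative (P : Subgroup G)) (Q : Sylow q G)
    (hQab : IsMulCommutative (Q : Subgroup G)) (S : Sylow 2 G)
    (hS : ¬ IsMulCommutative (S : Subgroup G)) (heP : autoOrder P = 2) (heQ : 3 ≤ autoOrder Q) :
    False := by
  haveI := E.simple
  haveI : Fact (Nat.Prime 2) := ⟨Nat.prime_two⟩
  obtain ⟨z, hzS, hzc, hz1⟩ := E.exists_central S
  have hCz := E.centralizer_central P hPab Q hQab S hzS hzc hz1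
  have h6 : autoOrder S < 6 := by
    by_contra hlt
    have := autoOrder_bound E.h E.noncomm E.primes E.hpq E.hps E.hqs P Q S (a := 2) (b := 3)
      (c := 6) heP.ge heQ (by omega) (by norm_num) (by norm_num) (by norm_num)
    have := Nat.div_mul_le_self (Nat.card G) 2
    have := Nat.div_mul_le_self (Nat.card G) 3
    have := Nat.div_mul_le_self (Nat.card G) 6
    omega
  have hCS : centralizer ((S : Subgroup G) : Set G) ≤ (S : Subgroup G) := by
    refine le_trans (centralizer_le ?_) hCz.le
    exact Set.singleton_subset_iff.2 hzS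
  set d := (center (S : Subgroup G)).index with hd
  have hd1 : d ∣ autoOrder S := by
    have h1 : (centralizer ((S : Subgroup G) : Set G)).relIndex (S : Subgroup G) = d := by
      rw [hd, relIndex]
      congr 1
      ext y
      simp only [mem_subgroupOf, mem_centralizer_iff, SetLike.mem_coe, mem_center_iff,
        Subtype.forall, Subtype.ext_iff, coe_mul]
    rw [autoOrder, ← relIndex_mul_relIndex _ (S : Subgroup G) _ hCS le_normalizer, h1]
    exact dvd_mul_right _ _
  have hd4 : d = 4 := by
    have hnc : ¬ IsCyclic ((S : Subgroup G) ⧸ center (S : Subgroup G)) := fun hc => hS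
      (MonoidHom.isMulCommutative_of_isCyclic_of_ker_le_center
        (QuotientGroup.mk' (center (S : Subgroup G))) (by rw [QuotientGroup.ker_mk']))
    have hle : d ≤ 5 := by
      have := Nat.le_of_dvd (by have := two_le_autoOrder E.noncomm E.rot.rot.dvd S; omega) hd1
      omega
    obtain ⟨m, hm⟩ := IsPGroup.iff_card.1 S.2
    obtain ⟨i, -, hi⟩ := (Nat.dvd_prime_pow Nat.prime_two).1
      (hm ▸ index_dvd_card (center (S : Subgroup G)))
    have hi2 : i = 2 := by
      rcases (show i = 0 ∨ i = 1 ∨ i = 2 ∨ 3 ≤ i by omega) with h | h | h | h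
      · exfalso
        refine hnc ?_
        haveI : Subsingleton ((S : Subgroup G) ⧸ center (S : Subgroup G)) := by
          refine (Nat.card_eq_one_iff_unique.1 ?_).1
          rw [← index_eq_card, hi, h, pow_zero]
        infer_instance
      · exact absurd (isCyclic_of_prime_card (p := 2) (by rw [← index_eq_card, hi, h, pow_one])) hnc
      · exact h
      · exfalso
        have := Nat.pow_le_pow_right (show 1 ≤ 2 by norm_num) h
        rw [← hi] at this
        change 2 ^ 3 ≤ d at this
        omega
    rw [hd, hi, hi2]; norm_num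
  -- every element outside the centre is an involution
  have hsq : ∀ u : (S : Subgroup G), u ∉ center (S : Subgroup G) → u ^ 2 = 1 := by
    intro u hu
    have h4 : u ^ 4 = 1 := E.no_central_power P hPab Q hQab S hu (by
      have := (center (S : Subgroup G)).pow_index_mem u
      rwa [← hd, hd4] at this)
    refine E.no_central_power P hPab Q hQab S hu ?_
    by_contra h2
    have ho : orderOf (u : (S : Subgroup G) ⧸ center (S : Subgroup G)) = 2 ^ (1 + 1) := by
      refine orderOf_eq_prime_pow ?_ ?_
      · rw [pow_one, ← QuotientGroup.mk_pow, QuotientGroup.eq_one_iff]; exact h2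
      · rw [← QuotientGroup.mk_pow, show (2 : ℕ) ^ (1 + 1) = 4 by norm_num, h4,
          QuotientGroup.mk_one]
    haveI hcyc : IsCyclic ((S : Subgroup G) ⧸ center (S : Subgroup G)) :=
      isCyclic_of_orderOf_eq_card _ (by rw [ho, ← index_eq_card, ← hd, hd4]; norm_num)
    exact hS (MonoidHom.isMulCommutative_of_isCyclic_of_ker_le_center
      (QuotientGroup.mk' (center (S : Subgroup G))) (by rw [QuotientGroup.ker_mk']))
  apply hS
  have hall : ∀ x : (S : Subgroup G), x ^ 2 = 1 := by
    intro x
    by_cases hx : x ∈ center (S : Subgroup G)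
    · obtain ⟨u, hu⟩ : ∃ u : (S : Subgroup G), u ∉ center (S : Subgroup G) := by
        by_contra hc
        push Not at hc
        have : (center (S : Subgroup G)).index = 1 := index_eq_one.2 ((eq_top_iff' _).2 hc)
        omega
      have h1 := hsq (u * x) fun hc => hu (by
        have := mul_mem hc (inv_mem hx)
        rwa [mul_inv_cancel_right] at this)
      rwa [(show Commute u x from mem_center_iff.1 hx u).mul_pow, hsq u hu, one_mul] at h1
    · exact hsq x hx
  refine ⟨⟨fun a b => ?_⟩⟩
  have hinv : ∀ c : (S : Subgroup G), c⁻¹ = c := fun c =>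
    inv_eq_of_mul_eq_one_right (by rw [← sq, hall c])
  calc a * b = (a * b)⁻¹ := (hinv _).symm
    _ = b * a := by rw [mul_inv_rev, hinv, hinv]

end Even

end CfsgLib.TwoPrimeClasses
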