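import Cfsg.Agent.TwoPrimeClasses.Endgame

/-!
# Conclusion for the simple groups
-/

set_option autoImplicit false
set_option linter.unusedSectionVars false
set_option linter.style.haveILetI false

namespace CfsgLib.TwoPrimeClasses

open Subgroup

universe u

variable {G : Type u} [Group G] [Finite G]

/-- What is used of a simple group with the hypothesis. -/
structure SimpleData (G : Type u) [Group G] : Prop where
  card : Nat.card G = 60 ∨ Nat.card G = 504
  ab : ∀ (r : ℕ), r.Prime → ∀ R : Sylow r G, IsMulCommutative (R : Subgroup G)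
  cent : ∀ (r : ℕ), r.Prime → ∀ (R : Sylow r G), ∀ x ∈ (R : Subgroup G), x ≠ 1 →
    centralizer ({x} : Set G) = (R : Subgroup G)

theorem simple_data [IsSimpleGroup G] (hG : ¬ IsMulCommutative G) (h : TwoPrimes G) :
    SimpleData G := by
  classical
  haveI := Fintype.ofFinite G
  haveI : Fact (Nat.Prime 2) := ⟨Nat.prime_two⟩
  obtain ⟨p, hpF, hp2, hpd, hP2⟩ := exists_autoOrder_two h hG
  obtain ⟨P⟩ : Nonempty (Sylow p G) := inferInstance
  have h2d : 2 ∣ Nat.card G := by
    rw [← autoOrder_mul P, hP2 P]
    exact dvd_mul_left _ _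
  have hpmem : p ∈ (Nat.card G).primeFactors :=
    Nat.mem_primeFactors.2 ⟨Fact.out, hpd, Nat.card_pos.ne'⟩
  have h2mem : 2 ∈ (Nat.card G).primeFactors :=
    Nat.mem_primeFactors.2 ⟨Nat.prime_two, h2d, Nat.card_pos.ne'⟩
  obtain ⟨q, hq⟩ : ∃ q, (((Nat.card G).primeFactors.erase p).erase 2) = {q} := by
    rw [← Finset.card_eq_one, Finset.card_erase_of_mem (Finset.mem_erase.2 ⟨hp2.symm, h2mem⟩),
      Finset.card_erase_of_mem hpmem, card_primeFactors_eq_three h hG]
  have hq' : q ∈ ((Nat.card G).primeFactors.erase p).erase 2 := hq ▸ Finset.mem_singleton_self q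
  simp only [Finset.mem_erase] at hq'
  obtain ⟨hq2, hqp, hqmem⟩ := hq'
  have hqP : q.Prime := Nat.prime_of_mem_primeFactors hqmem
  haveI := Fact.mk hqP
  have hπ : (Nat.card G).primeFactors = {p, q, 2} := by
    ext t
    have ht : t ∈ ((Nat.card G).primeFactors.erase p).erase 2 ↔ t = q := by
      rw [hq, Finset.mem_singleton]
    simp only [Finset.mem_erase] at ht
    simp only [Finset.mem_insert, Finset.mem_singleton]
    constructor
    · intro htm
      by_contra hne
      push Not at hne
      exact hne.2.1 (ht.1 ⟨hne.2.2, hne.1, htm⟩)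
    · rintro (rfl | rfl | rfl)
      · exact hpmem
      · exact hqmem
      · exact h2mem
  have E : Setup G p q 2 := ⟨h, inferInstance, hG, Fact.out, hqP, Nat.prime_two, hqp.symm, hp2, hq2, hπ⟩
  obtain ⟨Q⟩ : Nonempty (Sylow q G) := inferInstance
  obtain ⟨S⟩ : Nonempty (Sylow 2 G) := inferInstance
  have hp3 : 3 ≤ p := by
    have := (Fact.out : p.Prime).two_le
    omega
  have hq3 : 3 ≤ q := by have := hqP.two_le; omega
  have hPab : IsMulCommutative (P : Subgroup G) := sylow_comm_of_autoOrder_lt P (by
    rw [hP2 P]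
    calc 2 < 3 ^ 2 := by norm_num
      _ ≤ p ^ 2 := Nat.pow_le_pow_left hp3 2)
  have hQab : IsMulCommutative (Q : Subgroup G) := sylow_comm_of_autoOrder_lt Q (by
    by_contra hlt
    have h9 : 9 ≤ q ^ 2 := le_trans (by norm_num) (Nat.pow_le_pow_left hq3 2)
    have := autoOrder_bound h hG hπ hqp.symm hp2 hq2 P Q S (a := 2) (b := 6) (c := 3)
      (hP2 P).ge (by omega) (three_le_autoOrder_two hG h2d S) (by norm_num) (by norm_num)
      (by norm_num)
    have := Nat.div_mul_le_self (Nat.card G) 2
    have := Nat.div_mul_le_self (Nat.card G) 3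
    have := Nat.div_mul_le_self (Nat.card G) 6
    omega)
  have hS : IsMulCommutative (S : Subgroup G) := by
    by_contra hS
    rcases Nat.lt_or_ge (autoOrder Q) 3 with hlt | hge
    · have heQ : autoOrder Q = 2 := by
        have := two_le_autoOrder hG E.swap.dvd Q
        omega
      have TP : TICtx P := ⟨inferInstance, hG, hPab, hP2 P, hp2, fun x hx hx1 =>
        E.centralizer_eq P hPab Q hQab (by rw [hP2 P]; exact Nat.prime_two) hx hx1⟩
      have TQ : TICtx Q := ⟨inferInstance, hG, hQab, heQ, hq2, fun x hx hx1 =>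
        E.swap.centralizer_eq Q hQab P hPab (by rw [heQ]; exact Nat.prime_two) hx hx1⟩
      rcases lt_trichotomy (Nat.card (P : Subgroup G)) (Nat.card (Q : Subgroup G)) with h' | h' | h'
      · exact E.false_of_lt TP TQ S hS h'
      · have hc := coprime_card_of_primes hqp.symm P Q
        rw [h', Nat.coprime_self] at hc
        exact (TQ.one_lt_card E.swap.dvd).ne' hc
      · exact E.swap.false_of_lt TQ TP S hS h'
    · exact E.false_of_autoOrder_three P hPab Q hQab S hS (hP2 P) hge
  have hab : ∀ (r : ℕ), r.Prime → ∀ R : Sylow r G, IsMulCommutative (R : Subgroup G) := by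
    intro r hr R
    haveI := Fact.mk hr
    by_cases hrd : r ∣ Nat.card G
    · rcases E.dvd_cases hr hrd with rfl | rfl | rfl
      · exact sylow_abelian_congr hPab R
      · exact sylow_abelian_congr hQab R
      · exact sylow_abelian_congr hS R
    · obtain ⟨k, hk⟩ := IsPGroup.iff_card.1 R.2
      rcases Nat.eq_zero_or_pos k with rfl | hk0
      · haveI : Subsingleton (R : Subgroup G) :=
          (Nat.card_eq_one_iff_unique.1 (by rw [hk, pow_zero])).1
        exact ⟨⟨fun a b => Subsingleton.elim _ _⟩⟩
      · exact absurd ((hk ▸ dvd_pow_self r hk0.ne').trans (card_subgroup_dvd_card _)) hrd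
  exact ⟨E.card_of_abelian hab, hab, fun r hr R x hx hx1 => E.centralizer_eq_sylow hab hr R hx hx1⟩

end CfsgLib.TwoPrimeClasses
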